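import Cfsg.Agent.Lib.Invol.LengthEight.Core
import Cfsg.Agent.Lib.Invol.InvertedOdd
import Mathlib.GroupTheory.GroupAction.ConjAct
import Mathlib.GroupTheory.Subgroup.Simple

/-!
# A simple group with a maximal Sylow 2-subgroup of order 128
-/

set_option autoImplicit false

namespace CfsgLib.Invol.LengthEight

open Subgroup

variable {G : Type*} [Group G] [Finite G]

/-- The hypotheses. -/
structure Ctx (S : Sylow 2 G) : Prop where
  simple : IsSimpleGroup G
  noncomm : ¬ IsMulCommutative G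
  card : Nat.card (S : Subgroup G) = 2 ^ 7
  short : Short G

namespace Ctx

variable {S : Sylow 2 G} (C : Ctx S)
include C

theorem center_bot : center G = ⊥ := by
  haveI := C.simple
  rcases (inferInstance : (center G).Normal).eq_bot_or_eq_top with h | h
  · exact h
  · exact absurd (isMulCommutative_iff.2 fun a b => (mem_center_iff.1 (h ▸ mem_top b) a)) C.noncomm

omit C in
theorem sylow_two : IsPGroup 2 (S : Subgroup G) := S.isPGroup'

theorem ne_top : (S : Subgroup G) ≠ ⊤ := fun h => by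
  haveI : Fact (Nat.Prime 2) := ⟨Nat.prime_two⟩
  have hp : IsPGroup 2 G := IsPGroup.of_card (n := 7) (by rw [← card_top (G := G), ← h, C.card])
  haveI := C.simple
  haveI : Nontrivial G := C.simple.toNontrivial
  haveI := hp.center_nontrivial
  exact (nontrivial_iff_ne_bot _).1 inferInstance C.center_bot

theorem normalizer_ne_top {H : Subgroup G} (h : H ≠ ⊥) (h' : H ≠ ⊤) : normalizer (H : Set G) ≠ ⊤ := fun e => by
  haveI := C.simple
  rcases (normalizer_eq_top_iff.1 e).eq_bot_or_eq_top with h1 | h1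
  · exact h h1
  · exact h' h1

theorem two_le {X H : Subgroup G} (hX : IsPGroup 2 X) (h : X < H) (hH : H ≠ ⊤) : Nat.card X ≤ 64 := by
  haveI : Fact (Nat.Prime 2) := ⟨Nat.prime_two⟩
  obtain ⟨a, ha⟩ := IsPGroup.iff_card.1 hX
  have := C.short.two_bound ha h hH
  rw [ha]
  exact (Nat.pow_le_pow_right (by norm_num) this).trans_eq (by norm_num)

theorem two_le₂ {X Y H : Subgroup G} (hX : IsPGroup 2 X) (h : X < Y) (h' : Y < H) (hH : H ≠ ⊤) :
    Nat.card X ≤ 32 := by
  haveI : Fact (Nat.Prime 2) := ⟨Nat.prime_two⟩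
  obtain ⟨a, ha⟩ := IsPGroup.iff_card.1 hX
  have := C.short.two_bound₂ ha h h' hH
  rw [ha]
  exact (Nat.pow_le_pow_right (by norm_num) this).trans_eq (by norm_num)

theorem maximal {H : Subgroup G} (h : (S : Subgroup G) < H) : H = ⊤ := by
  by_contra hne
  have := C.two_le sylow_two h hne
  rw [C.card] at this
  norm_num at this

/-- A subgroup containing the Sylow subgroup and fixing a nontrivial proper subgroup is the Sylow subgroup. -/
theorem cent_eq {z : G} (hz : z ≠ 1) (hc : ∀ s ∈ (S : Subgroup G), s * z = z * s) :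
    centralizer ({z} : Set G) = S := by
  have hle : (S : Subgroup G) ≤ centralizer ({z} : Set G) := fun s hs => mem_centralizer_singleton_iff.2 (hc s hs)
  by_contra hne
  have htop := C.maximal (lt_of_le_of_ne hle (Ne.symm hne))
  have : z ∈ center G := mem_center_iff.2 fun g => mem_centralizer_singleton_iff.1 (htop.ge (mem_top g))
  rw [C.center_bot] at this
  exact hz (mem_bot.1 this)

theorem comm_iff {z : G} (hz : z ≠ 1) (hc : ∀ s ∈ (S : Subgroup G), s * z = z * s) {g : G} :
    g * z = z * g ↔ g ∈ (S : Subgroup G) := by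
  rw [← C.cent_eq hz hc, mem_centralizer_singleton_iff]

omit C in
/-- An element of odd order in a 2-group is trivial. -/
theorem odd_eq_one {H : Subgroup G} (hH : IsPGroup 2 H) {x : G} (hx : x ∈ H) (ho : Odd (orderOf x)) : x = 1 := by
  obtain ⟨k, hk⟩ := hH ⟨x, hx⟩
  have h1 : orderOf x ∣ 2 ^ k := orderOf_dvd_of_pow_eq_one (congrArg Subtype.val hk)
  obtain ⟨i, -, hi⟩ := (Nat.dvd_prime_pow Nat.prime_two).1 h1
  rcases i with _ | i
  · exact orderOf_eq_one_iff.1 (by rw [hi, pow_zero])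
  · rw [hi] at ho; exact absurd ho (by simp [Nat.even_pow, Nat.not_odd_iff_even])

omit C in
/-- Normalizers in a proper subgroup of a 2-group grow. -/
theorem exists_growth {P X : Subgroup G} (hP : IsPGroup 2 P) (hle : X ≤ P) (hne : X ≠ P) :
    ∃ u ∈ P, u ∉ X ∧ u ∈ normalizer (X : Set G) := by
  haveI : Fact (Nat.Prime 2) := ⟨Nat.prime_two⟩
  haveI := hP.isNilpotent
  have hlt : X.subgroupOf P < ⊤ := lt_top_iff_ne_top.2 fun e => hne (le_antisymm hle (subgroupOf_eq_top.1 e))
  obtain ⟨u, hu, huX⟩ := SetLike.exists_of_lt (normalizerCondition_of_isNilpotent (G := P) _ hlt)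
  refine ⟨u, u.2, fun h => huX (mem_subgroupOf.2 h), mem_normalizer_iff.2 fun a => ?_⟩
  by_cases ha : a ∈ P
  · exact mem_normalizer_iff.1 hu ⟨a, ha⟩
  · refine ⟨fun h => absurd (hle h) ha, fun h => absurd ?_ ha⟩
    have := mul_mem (mul_mem (inv_mem u.2) (hle h)) u.2
    rwa [show (u : G)⁻¹ * ((u : G) * a * (u : G)⁻¹) * u = a by group] at this

omit C in
/-- The orbit of an element under a subgroup and its stabilizer. -/
theorem card_orbit (H : Subgroup G) (x : G) :
    Nat.card {y : G // ∃ h ∈ H, h * x * h⁻¹ = y} * Nat.card (H ⊓ centralizer ({x} : Set G) : Subgroup G) =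
      Nat.card H := by
  letI : MulAction H G := MulAction.compHom G (MulAut.conj.comp H.subtype)
  have hsm : ∀ (h : H) (y : G), h • y = (h : G) * y * (h : G)⁻¹ := fun h y => rfl
  have h1 : Nat.card {y : G // ∃ h ∈ H, h * x * h⁻¹ = y} = (MulAction.stabilizer H x).index := by
    rw [MulAction.index_stabilizer, ← Nat.card_coe_set_eq]
    refine Nat.card_congr (Equiv.subtypeEquivRight fun y => ?_)
    rw [MulAction.mem_orbit_iff]
    exact ⟨fun ⟨h, hh, e⟩ => ⟨⟨h, hh⟩, e⟩, fun ⟨h, e⟩ => ⟨h, h.2, e⟩⟩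
  have h2 : Nat.card ↥(H ⊓ centralizer ({x} : Set G)) = Nat.card (MulAction.stabilizer H x) :=
    Nat.card_congr
      { toFun := fun h => ⟨⟨h.1, h.2.1⟩, MulAction.mem_stabilizer_iff.2 (by
          rw [hsm]; exact mul_inv_eq_iff_eq_mul.2 (mem_centralizer_singleton_iff.1 h.2.2))⟩
        invFun := fun h => ⟨h.1, h.1.2, mem_centralizer_singleton_iff.2
          (mul_inv_eq_iff_eq_mul.1 (MulAction.mem_stabilizer_iff.1 h.2))⟩
        left_inv := fun h => rfl
        right_inv := fun h => rfl }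
  rw [h1, h2, mul_comm]
  exact Subgroup.card_mul_index _

omit C in
/-- A subgroup containing representatives of two cosets has index two. -/
theorem index_two_of {S' R : Subgroup G} (hR : R ≤ S') {s₀ : G} (hs₀ : s₀ ∈ S') (h₀ : s₀ ∉ R)
    (h : ∀ a ∈ S', a ∉ R → a * s₀ ∈ R) : Nat.card S' = 2 * Nat.card R := by
  have hi : (R.subgroupOf S').index = 2 := by
    rw [index_eq_two_iff]
    refine ⟨⟨s₀, hs₀⟩, fun b => ?_⟩
    simp only [mem_subgroupOf, Subgroup.coe_mul]
    by_cases hb : (b : G) ∈ R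
    · exact Or.inr ⟨hb, fun e => h₀ (by simpa using mul_mem (inv_mem hb) e)⟩
    · exact Or.inl ⟨h b b.2 hb, hb⟩
  have := (R.subgroupOf S').card_mul_index
  rw [hi, Nat.card_congr (subgroupOfEquivOfLe hR).toEquiv] at this
  omega

omit C in
/-- A 2-group lies in a conjugate of the Sylow subgroup. -/
theorem exists_conj_le {U : Subgroup G} (hU : IsPGroup 2 U) :
    ∃ g : G, U ≤ (S : Subgroup G).map (MulAut.conj g).toMonoidHom := by
  haveI : Fact (Nat.Prime 2) := ⟨Nat.prime_two⟩
  obtain ⟨Q, hQ⟩ := hU.exists_le_sylow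
  obtain ⟨g, rfl⟩ := MulAction.exists_smul_eq G S Q
  exact ⟨g, fun u hu => by
    have h1 := hQ hu
    rw [Sylow.coe_subgroup_smul] at h1
    obtain ⟨a, ha, e⟩ := h1
    exact ⟨a, ha, e⟩⟩

/-- The centralizer of a conjugate of a central involution. -/
theorem comm_conj_iff {z : G} (hz : z ≠ 1) (hc : ∀ s ∈ (S : Subgroup G), s * z = z * s) {g a : G} :
    a * (g * z * g⁻¹) = g * z * g⁻¹ * a ↔ g⁻¹ * a * g ∈ (S : Subgroup G) := by
  rw [← C.comm_iff hz hc]
  constructor <;> intro h
  · calc g⁻¹ * a * g * z = g⁻¹ * (a * (g * z * g⁻¹)) * g := by group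
      _ = g⁻¹ * (g * z * g⁻¹ * a) * g := by rw [h]
      _ = _ := by group
  · calc a * (g * z * g⁻¹) = g * (g⁻¹ * a * g * z) * g⁻¹ := by group
      _ = g * (z * (g⁻¹ * a * g)) * g⁻¹ := by rw [h]
      _ = _ := by group

theorem odd_fix {z : G} (hz : z ≠ 1) (hc : ∀ s ∈ (S : Subgroup G), s * z = z * s) {g x : G}
    (hx : Odd (orderOf x)) (h : x * (g * z * g⁻¹) = g * z * g⁻¹ * x) : x = 1 := by
  have h1 := odd_eq_one sylow_two ((C.comm_conj_iff hz hc).1 h)
    (by rw [show g⁻¹ * x * g = MulAut.conj g⁻¹ x by simp, MulEquiv.orderOf_eq]; exact hx)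
  calc x = g * (g⁻¹ * x * g) * g⁻¹ := by group
    _ = 1 := by rw [h1]; group

end Ctx

end CfsgLib.Invol.LengthEight
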