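import Cfsg.Agent.Lib.Invol.LengthEight.Noncentral
import Cfsg.Agent.Lib.Invol.ZStar

/-!
# No central four subgroup
-/

set_option autoImplicit false

namespace CfsgLib.Invol.LengthEight

open Subgroup CfsgLib.Fusion

universe u

variable {G : Type u} [Group G] [Finite G]

/-- An element that squares into the core and lies outside inverts an element of odd order over it. -/
theorem exists_inverted {N T : Subgroup G} (hc : IsCore N T) {r : G} (hr : r ∈ N) (hrT : r ∉ T) (hr2 : r * r ∈ T) :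
    ∃ x ∈ N, x ≠ 1 ∧ Odd (orderOf x) ∧ ∃ t ∈ T, r * x * r⁻¹ = x⁻¹ * t := by
  haveI : Fact (Nat.Prime 2) := ⟨Nat.prime_two⟩
  obtain ⟨hTN, hT2, hTn, hO⟩ := hc
  set T' := T.subgroupOf N with hT'
  haveI : T'.Normal := hTn
  set f := QuotientGroup.mk' T' with hf
  have hTp : IsPGroup 2 T' := hT2.of_equiv (subgroupOfEquivOfLe hTN).symm
  have hker : IsPGroup 2 f.ker := by rw [hf, QuotientGroup.ker_mk']; exact hTp
  have hbot : Cfsg.pCore 2 (N ⧸ T') = ⊥ := by
    haveI := CfsgLib.Coprime.pCore_normal' (G := N ⧸ T') 2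
    have hle := hO _ ((inferInstance : (Cfsg.pCore 2 (N ⧸ T')).Normal).comap f)
      ((CfsgLib.Coprime.pCore_isPGroup (G := N ⧸ T') 2).comap_of_ker_isPGroup f hker) fun t ht => by
        rw [mem_comap, show f t = 1 from (QuotientGroup.eq_one_iff _).2 ht]; exact one_mem _
    refine (eq_bot_iff_forall _).2 fun y hy => ?_
    obtain ⟨u, rfl⟩ := QuotientGroup.mk'_surjective T' y
    exact (QuotientGroup.eq_one_iff _).2 (hle hy)
  have hf1 : ∀ u : N, f u = 1 ↔ (u : G) ∈ T := fun u => (QuotientGroup.eq_one_iff u).trans mem_subgroupOf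
  have hr' : orderOf (f ⟨r, hr⟩) = 2 := orderOf_eq_prime
    (by rw [pow_two, ← map_mul]; exact (hf1 _).2 hr2) (fun h => hrT ((hf1 _).1 h))
  obtain ⟨y, hy1, hyo, hry⟩ := exists_odd_inverted_of_notMem_pCore hr' (by
    rw [hbot, mem_bot]; exact fun h => hrT ((hf1 _).1 h))
  obtain ⟨u, rfl⟩ := QuotientGroup.mk'_surjective T' y
  obtain ⟨j, m, hm, hjm⟩ := Nat.exists_eq_two_pow_mul_odd (orderOf_pos u).ne'
  have hxo : Odd (orderOf (u ^ 2 ^ j)) := by
    rw [orderOf_pow_of_dvd (pow_ne_zero j two_ne_zero) ⟨m, hjm⟩, hjm, Nat.mul_div_cancel_left _ (pow_pos two_pos j)]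
    exact hm
  have hx1 : f (u ^ 2 ^ j) ≠ 1 := fun h => by
    rw [map_pow] at h
    obtain ⟨i, -, hi⟩ := (Nat.dvd_prime_pow Nat.prime_two).1 (orderOf_dvd_of_pow_eq_one h)
    rcases i with _ | i
    · exact hy1 (orderOf_eq_one_iff.1 (by rw [hi, pow_zero]))
    · rw [hf] at hi; rw [hi] at hyo; exact absurd hyo (by simp [Nat.even_pow, Nat.not_odd_iff_even])
  refine ⟨_, (u ^ 2 ^ j).2, fun h => hx1 (by rw [show u ^ 2 ^ j = 1 from Subtype.ext h, map_one]),
    by rw [Subgroup.orderOf_coe]; exact hxo,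
    (((u ^ 2 ^ j) * (⟨r, hr⟩ * u ^ 2 ^ j * ⟨r, hr⟩⁻¹) : N) : G), (hf1 _).1 ?_, ?_⟩
  · simp only [map_mul, map_inv, map_pow, ← conj_pow]
    rw [show f ⟨r, hr⟩ * f u * (f ⟨r, hr⟩)⁻¹ = (f u)⁻¹ from hry, inv_pow, mul_inv_cancel]
  · simp

namespace Ctx

variable {S : Sylow 2 G} (C : Ctx S)
include C

/-- A central involution of the Sylow subgroup has a conjugate elsewhere in it. -/
theorem exists_fused {z : G} (hz1 : z ≠ 1) (hz2 : z * z = 1) :
    ∃ g : G, g * z * g⁻¹ ∈ (S : Subgroup G) ∧ g * z * g⁻¹ ≠ z := by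
  haveI := C.simple
  by_contra hno
  push Not at hno
  have hz := CfsgLib.Invol.zstar_of_weakly_closed S (orderOf_eq_prime (by rw [pow_two, hz2]) hz1) hno
  have hO : Cfsg.pPrimeCore 2 G = ⊥ := by
    haveI := CfsgLib.Coprime.pPrimeCore_characteristic (G := G) 2
    rcases (inferInstance : (Cfsg.pPrimeCore 2 G).Normal).eq_bot_or_eq_top with h | h
    · exact h
    · exfalso
      have h1 := CfsgLib.Coprime.pPrimeCore_coprime (G := G) Nat.prime_two
      rw [h, Subgroup.card_top] at h1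
      have h2 : 2 ∣ Nat.card G :=
        (show 2 ∣ Nat.card (S : Subgroup G) by rw [C.card]; norm_num).trans (card_subgroup_dvd_card _)
      exact absurd h2 ((Nat.prime_two.coprime_iff_not_dvd).1 h1.symm)
  have htc : z ∈ center G := mem_center_iff.2 fun g => by
    have h1 := hz g
    rw [hO, mem_bot, mul_inv_eq_one, mul_inv_eq_iff_eq_mul] at h1
    exact h1.symm
  rw [C.center_bot] at htc
  exact hz1 (mem_bot.1 htc)

/-- A four subgroup central in the Sylow subgroup does not exist. -/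
theorem central_false {E : Subgroup G} (hES : E ≤ (S : Subgroup G)) (hE4 : Nat.card E = 4)
    (hE2 : ∀ e ∈ E, e * e = 1) (hEc : ∀ e ∈ E, ∀ s ∈ (S : Subgroup G), s * e = e * s) : False := by
  classical
  haveI : Fact (Nat.Prime 2) := ⟨Nat.prime_two⟩
  have hcS : ∀ e ∈ E, e ≠ 1 → ∀ a : G, a * e = e * a → a ∈ (S : Subgroup G) := fun e he he1 a ha =>
    (C.comm_iff he1 (hEc e he)).1 ha
  have hE1 : ∃ e ∈ E, e ≠ 1 := by
    by_contra h
    push Not at h
    rw [(eq_bot_iff_forall _).2 h, card_bot] at hE4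
    norm_num at hE4
  obtain ⟨e₁, he₁, he₁1⟩ := hE1
  let K : G → Subgroup G := fun k => (S : Subgroup G) ⊓ (S : Subgroup G).map (MulAut.conj k).toMonoidHom
  have hmemK : ∀ k a, a ∈ K k ↔ a ∈ (S : Subgroup G) ∧ k⁻¹ * a * k ∈ (S : Subgroup G) := fun k a => by
    refine and_congr Iff.rfl ⟨?_, fun h => ⟨_, h, by simp [mul_assoc]⟩⟩
    rintro ⟨b, hb, rfl⟩
    rw [show k⁻¹ * (MulAut.conj k).toMonoidHom b * k = b by simp [mul_assoc]]
    exact hb
  -- the fused elements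
  have hexb : ∃ k : G, k ∉ (S : Subgroup G) ∧ ∃ e ∈ E, e ≠ 1 ∧ k * e * k⁻¹ ∈ (S : Subgroup G) := by
    obtain ⟨k, hk, hk'⟩ := C.exists_fused he₁1 (hE2 e₁ he₁)
    exact ⟨k, fun h => hk' (by rw [hEc e₁ he₁ k h, mul_inv_cancel_right]), e₁, he₁, he₁1, hk⟩
  obtain ⟨g, ⟨hgS, e₀, he₀, he₀1, hge₀⟩, hmax⟩ := Set.exists_max_image
    {k : G | k ∉ (S : Subgroup G) ∧ ∃ e ∈ E, e ≠ 1 ∧ k * e * k⁻¹ ∈ (S : Subgroup G)}
    (fun k => Nat.card (K k)) (Set.toFinite _) hexb
  set T := K g with hTd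
  have hgE' : ∀ e ∈ E, g⁻¹ * e * g ∈ (S : Subgroup G) := fun e he =>
    (C.comm_conj_iff he₀1 (hEc e₀ he₀)).1 (hEc e he _ hge₀).symm
  have hgE : ∀ e ∈ E, g * e * g⁻¹ ∈ (S : Subgroup G) := fun e he => by
    refine hcS e₁ he₁ he₁1 _ ?_
    have h1 := hEc e he _ (hgE' e₁ he₁)
    calc g * e * g⁻¹ * e₁ = g * (e * (g⁻¹ * e₁ * g)) * g⁻¹ := by group
      _ = g * (g⁻¹ * e₁ * g * e) * g⁻¹ := by rw [h1]
      _ = e₁ * (g * e * g⁻¹) := by group
  have hET : E ≤ T := fun e he => (hmemK g e).2 ⟨hES he, hgE' e he⟩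
  have hgET : ∀ e ∈ E, g * e * g⁻¹ ∈ T := fun e he => (hmemK g _).2 ⟨hgE e he, by
    rw [show g⁻¹ * (g * e * g⁻¹) * g = e by group]; exact hES he⟩
  have hTS : T ≤ (S : Subgroup G) := inf_le_left
  have hT2 : IsPGroup 2 T := sylow_two.to_le hTS
  let M : Subgroup G :=
    { carrier := {t | t ∈ T ∧ (∀ a ∈ T, a * t = t * a) ∧ t * t = 1}
      one_mem' := ⟨one_mem _, fun a _ => by simp, one_mul 1⟩
      mul_mem' := fun {a b} ha hb => ⟨mul_mem ha.1 hb.1,
        fun c hc => ((show Commute c a from ha.2.1 c hc).mul_right (hb.2.1 c hc)).eq, by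
          rw [mul_assoc, ← mul_assoc b a, hb.2.1 a ha.1 |>.symm, mul_assoc a b b, hb.2.2, mul_one, ha.2.2]⟩
      inv_mem' := fun {a} ha => by rw [inv_eq_of_mul_eq_one_right ha.2.2]; exact ha }
  have hMT : M ≤ T := fun a ha => ha.1
  have hEM : E ≤ M := fun e he => ⟨hET he, fun a ha => hEc e he a (hTS ha), hE2 e he⟩
  have hgEM : ∀ e ∈ E, g * e * g⁻¹ ∈ M := fun e he => ⟨hgET e he, fun a ha => by
      have h1 := hEc e he _ ((hmemK g a).1 ha).2
      calc a * (g * e * g⁻¹) = g * (g⁻¹ * a * g * e) * g⁻¹ := by group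
        _ = g * (e * (g⁻¹ * a * g)) * g⁻¹ := by rw [h1]
        _ = g * e * g⁻¹ * a := by group, by
      rw [show g * e * g⁻¹ * (g * e * g⁻¹) = g * (e * e) * g⁻¹ by group, hE2 e he]; group⟩
  have hMC : ∀ a : G, (∀ m ∈ M, a * m = m * a) → a ∈ T := fun a ha => (hmemK g a).2
    ⟨hcS e₁ he₁ he₁1 a (ha _ (hEM he₁)), (C.comm_conj_iff he₁1 (hEc e₁ he₁)).1 (ha _ (hgEM e₁ he₁))⟩
  have hTne : T ≠ ⊥ := fun h => he₁1 (mem_bot.1 (h ▸ hET he₁))
  have hTtop : T ≠ ⊤ := fun h => hgS (hTS (h ▸ mem_top g))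
  set N := normalizer (T : Set G) with hNd
  have hN : N ≠ ⊤ := C.normalizer_ne_top hTne hTtop
  have hTneS : T ≠ (S : Subgroup G) := fun h => by
    have hgn : g⁻¹ ∈ normalizer ((S : Subgroup G) : Set G) := mem_normalizer_of_conj_mem fun a ha => by
      rw [inv_inv]; exact ((hmemK g a).1 (h.ge ha)).2
    have hSt : normalizer ((S : Subgroup G) : Set G) = (S : Subgroup G) := by
      by_contra hne
      have h1 := C.maximal (lt_of_le_of_ne le_normalizer (Ne.symm hne))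
      exact C.normalizer_ne_top (fun h => he₁1 (mem_bot.1 (h ▸ hES he₁))) C.ne_top h1
    exact hgS (by simpa using inv_mem (hSt.le hgn))
  have hE16 : 16 ≤ Nat.card M := by
    have hinj : Function.Injective (fun p : E × E => (⟨(p.1 : G) * (g * p.2 * g⁻¹),
        mul_mem (hEM p.1.2) (hgEM p.2 p.2.2)⟩ : M)) := by
      rintro ⟨a, b⟩ ⟨a', b'⟩ h
      have h1 : (a : G) * (g * b * g⁻¹) = a' * (g * b' * g⁻¹) := congrArg Subtype.val h
      have h2 : (a' : G)⁻¹ * a = g * ((b' : G) * (b : G)⁻¹) * g⁻¹ := by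
        calc (a' : G)⁻¹ * a = (a' : G)⁻¹ * ((a : G) * (g * b * g⁻¹)) * (g * (b : G)⁻¹ * g⁻¹) := by group
          _ = _ := by rw [h1]; group
      by_cases hb : (b' : G) * (b : G)⁻¹ = 1
      · rw [hb, mul_one, mul_inv_cancel, inv_mul_eq_one] at h2
        exact Prod.ext (Subtype.ext h2.symm) (Subtype.ext (mul_inv_eq_one.1 hb).symm)
      exfalso
      have ha1 : (a' : G)⁻¹ * a ≠ 1 := fun e => by rw [e] at h2; exact hb (conj_eq_one_iff.1 h2.symm)
      have haE : (a' : G)⁻¹ * a ∈ E := mul_mem (inv_mem a'.2) a.2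
      refine hTneS (le_antisymm hTS fun s hs => (hmemK g s).2 ⟨hs, ?_⟩)
      refine (C.comm_conj_iff hb (hEc _ (mul_mem b'.2 (inv_mem b.2)))).1 ?_
      rw [← h2]; exact hEc _ haE s hs
    have h1 := Nat.card_le_card_of_injective _ hinj
    rw [Nat.card_prod, hE4] at h1
    exact h1
  have hMle := Subgroup.card_le_of_le hMT
  set P := (S : Subgroup G) ⊓ N with hPd
  have hTN : T ≤ N := le_normalizer
  have hTP : T ≤ P := le_inf hTS hTN
  have hP2 : IsPGroup 2 P := sylow_two.to_le inf_le_left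
  obtain ⟨n, hnN, hnS⟩ : ∃ n ∈ N, n ∉ (S : Subgroup G) := by
    have hle : T ≤ (S : Subgroup G).map (MulAut.conj g).toMonoidHom := inf_le_right
    have hne : T ≠ (S : Subgroup G).map (MulAut.conj g).toMonoidHom := fun h => hTneS (by
      refine eq_of_le_of_card_ge hTS ?_
      rw [h, card_map_of_injective (MulAut.conj g).injective])
    obtain ⟨v, hv, hvT, hvn⟩ := exists_growth (sylow_two.map _) hle hne
    exact ⟨v, hvn, fun h => hvT ⟨h, hv⟩⟩
  obtain ⟨u, huS, huT, huN⟩ := exists_growth sylow_two hTS hTneS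
  have hPltN : P < N := lt_of_le_of_ne inf_le_right fun h => hnS (h.ge hnN).1
  have hP64 : Nat.card P ≤ 64 := C.two_le hP2 hPltN hN
  have hTltP : T < P := lt_of_le_not_ge hTP fun h => huT (h ⟨huS, huN⟩)
  have hT32 : Nat.card T ≤ 32 := C.two_le₂ hT2 hTltP hPltN hN
  -- maximality of the intersection
  have hbig : ∀ k ∉ (S : Subgroup G), ∀ X : Subgroup G, E ≤ X → X ≤ (S : Subgroup G) →
      (∀ a ∈ X, k⁻¹ * a * k ∈ (S : Subgroup G)) → Nat.card X ≤ Nat.card T := by
    intro k hk X hEX hXS hXk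
    refine (Subgroup.card_le_of_le (show X ≤ K k from fun a ha => (hmemK k a).2 ⟨hXS ha, hXk a ha⟩)).trans
      (hmax k ⟨hk, e₁, he₁, he₁1, ?_⟩)
    refine hcS e₁ he₁ he₁1 _ ?_
    have h1 := hEc e₁ he₁ _ (hXk e₁ (hEX he₁))
    calc k * e₁ * k⁻¹ * e₁ = k * (e₁ * (k⁻¹ * e₁ * k)) * k⁻¹ := by group
      _ = k * (k⁻¹ * e₁ * k * e₁) * k⁻¹ := by rw [h1]
      _ = e₁ * (k * e₁ * k⁻¹) := by group
  -- `P` is a Sylow subgroup of `N`
  obtain ⟨U, hU⟩ := (hP2.of_equiv (subgroupOfEquivOfLe (inf_le_right : P ≤ N)).symm).exists_le_sylow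
  have hUP : P.subgroupOf N = (U : Subgroup N) := by
    refine le_antisymm hU fun a ha => ?_
    have hPU : P ≤ (U : Subgroup N).map N.subtype := fun b hb =>
      ⟨⟨b, hb.2⟩, hU (mem_subgroupOf.2 hb), rfl⟩
    obtain ⟨k, hk⟩ := exists_conj_le (S := S) (U.isPGroup'.map N.subtype)
    obtain ⟨b, hb, hb'⟩ := hk (mem_map_of_mem N.subtype ha)
    by_cases hkS : k ∈ (S : Subgroup G)
    · refine mem_subgroupOf.2 ⟨?_, a.2⟩
      rw [show ((a : N) : G) = k * b * k⁻¹ from hb'.symm]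
      exact (S : Subgroup G).mul_mem ((S : Subgroup G).mul_mem hkS hb) ((S : Subgroup G).inv_mem hkS)
    exfalso
    have h1 := hbig k hkS P (hET.trans hTP) inf_le_left fun c hc => by
      obtain ⟨d, hd, rfl⟩ := hk (hPU hc)
      rw [show k⁻¹ * (MulAut.conj k).toMonoidHom d * k = d by simp [mul_assoc]]
      exact hd
    exact absurd h1 (not_le.2 (lt_of_le_of_ne (Subgroup.card_le_of_le hTP) fun e =>
      hTltP.ne (eq_of_le_of_card_ge hTP e.ge)))
  have hsyl : ¬ 2 ∣ P.relIndex N := by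
    show ¬ 2 ∣ (P.subgroupOf N).index
    rw [hUP]; exact U.not_dvd_index
  have hcore : IsCore N T := by
    refine ⟨hTN, hT2, normal_in_normalizer, fun O hO hO2 hTO o ho => ?_⟩
    have hOU : O ≤ (U : Subgroup N) := by
      haveI := hO
      obtain ⟨V, hV⟩ := hO2.exists_le_sylow
      obtain ⟨c, rfl⟩ := MulAction.exists_smul_eq N V U
      intro t ht
      rw [Sylow.coe_subgroup_smul]
      exact ⟨c⁻¹ * t * c, hV (by simpa using hO.conj_mem t ht c⁻¹), by
        show c * (c⁻¹ * t * c) * c⁻¹ = t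
        group⟩
    set O' := O.map N.subtype with hO'
    have hO'P : O' ≤ P := by
      rintro _ ⟨a, ha, rfl⟩
      exact mem_subgroupOf.1 (hUP.ge (hOU ha))
    have hTO' : T ≤ O' := fun t ht => ⟨⟨t, hTN ht⟩, hTO (mem_subgroupOf.2 ht), rfl⟩
    have h1 := hbig n hnS O' (hET.trans hTO') (hO'P.trans inf_le_left) fun a ha => by
      obtain ⟨b, hb, rfl⟩ := ha
      have h2 := hO.conj_mem b hb (⟨n, hnN⟩ : N)⁻¹
      have h3 : ((⟨n, hnN⟩ : N)⁻¹ * b * ((⟨n, hnN⟩ : N)⁻¹)⁻¹ : N) ∈ P.subgroupOf N := hUP.ge (hOU h2)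
      have h4 := (mem_subgroupOf.1 h3).1
      simp only [Subgroup.coe_mul, Subgroup.coe_inv, inv_inv] at h4
      exact h4
    exact mem_subgroupOf.2 ((eq_of_le_of_card_ge hTO' h1).ge (mem_map_of_mem N.subtype ho))
  have hMn : ∀ k ∈ N, ∀ m ∈ M, k * m * k⁻¹ ∈ M := by
    rintro k hk m ⟨hm, hmc, hm2⟩
    refine ⟨(mem_normalizer_iff.1 hk m).1 hm, fun a ha => ?_, ?_⟩
    · have h1 := hmc _ ((mem_normalizer_iff''.1 hk a).1 ha)
      calc a * (k * m * k⁻¹) = k * (k⁻¹ * a * k * m) * k⁻¹ := by group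
        _ = k * (m * (k⁻¹ * a * k)) * k⁻¹ := by rw [h1]
        _ = k * m * k⁻¹ * a := by group
    · rw [show k * m * k⁻¹ * (k * m * k⁻¹) = k * (m * m) * k⁻¹ by group, hm2]; group
  -- the action of an involution of `P / T` on `M`
  have hfour : ∀ r ∈ P, r ∉ T → r * r ∈ T →
      4 * Nat.card (M ⊓ centralizer ({r} : Set G) : Subgroup G) ≤ Nat.card M := by
    intro r hr hrT hr2
    obtain ⟨x, hxN, hx1, hxo, t, ht, hrx⟩ := exists_inverted hcore hr.2 hrT hr2
    set A := M ⊓ centralizer ({r} : Set G) with hA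
    have hfix : ∀ e ∈ E, e ≠ 1 → x * e * x⁻¹ ∈ A → False := by
      intro e he he1 hm
      set m := x * e * x⁻¹ with hmd
      have c1 : Commute r m := (mem_centralizer_singleton_iff.1 hm.2).symm
      have c2 : Commute (x * r * x⁻¹) m := (Commute.conj_iff x).2 (hEc e he r hr.1)
      have e1 : r * x⁻¹ * r⁻¹ = t⁻¹ * x := by rw [← conj_inv, hrx, mul_inv_rev, inv_inv]
      have e2 : x * r * x⁻¹ = x * x * (x⁻¹ * t⁻¹ * x) * r := by
        calc x * r * x⁻¹ = x * (r * x⁻¹ * r⁻¹) * r := by group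
          _ = _ := by rw [e1]; group
      have c3 : Commute (x⁻¹ * t⁻¹ * x) m := hm.1.2.1 _ ((mem_normalizer_iff''.1 hxN _).1 (inv_mem ht))
      have c4 : Commute (x * x) m := by
        have h := (c2.mul_left c1.inv_left).mul_left c3.inv_left
        rwa [e2, mul_inv_cancel_right, mul_inv_cancel_right] at h
      obtain ⟨k, hk⟩ := hxo
      have c5 : Commute x m := by
        have h := c4.pow_left (k + 1)
        rwa [← pow_two, ← pow_mul, show 2 * (k + 1) = orderOf x + 1 by omega, pow_succ, pow_orderOf_eq_one,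
          one_mul] at h
      exact hx1 (C.odd_fix he1 (hEc e he) ⟨k, hk⟩ c5.eq)
    have hinj : Function.Injective (fun p : A × E => (⟨(p.1 : G) * (x * p.2 * x⁻¹),
        mul_mem p.1.2.1 (hMn x hxN _ (hEM p.2.2))⟩ : M)) := by
      rintro ⟨a, b⟩ ⟨a', b'⟩ h
      have h1 : (a : G) * (x * b * x⁻¹) = a' * (x * b' * x⁻¹) := congrArg Subtype.val h
      have h2 : (a' : G)⁻¹ * a = x * ((b' : G) * (b : G)⁻¹) * x⁻¹ := by
        calc (a' : G)⁻¹ * a = (a' : G)⁻¹ * ((a : G) * (x * b * x⁻¹)) * (x * (b : G)⁻¹ * x⁻¹) := by group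
          _ = _ := by rw [h1]; group
      by_cases hb : (b' : G) * (b : G)⁻¹ = 1
      · rw [hb, mul_one, mul_inv_cancel, inv_mul_eq_one] at h2
        exact Prod.ext (Subtype.ext h2.symm) (Subtype.ext (mul_inv_eq_one.1 hb).symm)
      · exact (hfix _ (mul_mem b'.2 (inv_mem b.2)) hb (h2 ▸ mul_mem (inv_mem a'.2) a.2)).elim
    have h1 := Nat.card_le_card_of_injective _ hinj
    rw [Nat.card_prod, hE4] at h1
    omega
  -- growth inside the Sylow subgroup
  have hPS : P ≠ (S : Subgroup G) := fun h => hN (C.maximal (h ▸ hPltN))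
  obtain ⟨y, hyS, hyP, hyn⟩ := exists_growth sylow_two inf_le_left hPS
  let cy := (MulAut.conj y).toMonoidHom
  have hcy : ∀ a, cy a = y * a * y⁻¹ := fun a => rfl
  set T' := T.map cy with hT'
  set M' := M.map cy with hM'
  have hTc : Nat.card T' = Nat.card T := card_map_of_injective (MulAut.conj y).injective
  have hMc : Nat.card M' = Nat.card M := card_map_of_injective (MulAut.conj y).injective
  have hT'P : T' ≤ P := by
    rintro _ ⟨a, ha, rfl⟩
    exact (mem_normalizer_iff.1 hyn a).1 (hTP ha)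
  have hne : ¬ M' ≤ M := fun hle => hyP ⟨hyS, by
    have heq := eq_of_le_of_card_ge hle hMc.ge
    refine mem_normalizer_of_conj_mem fun a ha => hMC _ fun m hm => ?_
    obtain ⟨m₀, hm₀, rfl⟩ := heq.ge hm
    have h1 := hm₀.2.1 a ha
    rw [hcy]
    calc y * a * y⁻¹ * (y * m₀ * y⁻¹) = y * (a * m₀) * y⁻¹ := by group
      _ = y * (m₀ * a) * y⁻¹ := by rw [h1]
      _ = y * m₀ * y⁻¹ * (y * a * y⁻¹) := by group⟩
  obtain ⟨m₀, hm₀', hm₀⟩ := SetLike.not_le_iff_exists.1 hne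
  have hMcomm : ∀ a ∈ M', ∀ b ∈ T', b * a = a * b := by
    rintro _ ⟨a, ha, rfl⟩ _ ⟨b, hb, rfl⟩
    rw [← map_mul, ← map_mul, ha.2.1 b hb]
  have hM'2 : ∀ a ∈ M', a * a = 1 := by
    rintro _ ⟨a, ha, rfl⟩
    rw [← map_mul, ha.2.2, map_one]
  have hM'T' : M' ≤ T' := map_mono hMT
  by_cases hMT' : M' ≤ T
  · have h2 := double (X := M) (Y := M ⊔ M') le_sup_left (mem_sup_right hm₀') hm₀
    have hX : M ⊔ M' = T := eq_of_le_of_card_ge (sup_le hMT hMT') (by omega)
    refine hm₀ ⟨hMT' hm₀', fun a ha => ?_, hM'2 _ hm₀'⟩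
    have hle : M ⊔ M' ≤ centralizer ({m₀} : Set G) := sup_le
      (fun b hb => mem_centralizer_singleton_iff.2 (hb.2.1 m₀ (hMT' hm₀')).symm)
      (fun b hb => mem_centralizer_singleton_iff.2 (hMcomm m₀ hm₀' b (hM'T' hb)))
    exact mem_centralizer_singleton_iff.1 (hle (hX.ge ha))
  · obtain ⟨r, hr, hrT⟩ := SetLike.not_le_iff_exists.1 hMT'
    have hrP : r ∈ P := hT'P (hM'T' hr)
    have h4 := hfour r hrP hrT (by rw [hM'2 r hr]; exact one_mem _)
    have hle : M ⊓ T' ≤ M ⊓ centralizer ({r} : Set G) := fun a ha =>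
      ⟨ha.1, mem_centralizer_singleton_iff.2 (hMcomm r hr a ha.2)⟩
    have hle' := Subgroup.card_le_of_le hle
    have i1 : Nat.card (M ⊓ T' : Subgroup G) * T'.relIndex M = Nat.card M := by
      have h := relIndex_mul_relIndex (⊥ : Subgroup G) (M ⊓ T') M bot_le inf_le_left
      rwa [relIndex_bot_left, relIndex_bot_left, inf_relIndex_left] at h
    have i2 : T'.relIndex M ≤ T'.relIndex P :=
      relIndex_le_of_le_right (hMT.trans hTP) (FiniteIndex.index_ne_zero)
    have i3 : Nat.card T' * T'.relIndex P = Nat.card P := by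
      have h := relIndex_mul_relIndex (⊥ : Subgroup G) T' P bot_le hT'P
      rwa [relIndex_bot_left, relIndex_bot_left] at h
    have hq4 : 4 ≤ T'.relIndex M := by
      by_contra h
      have := Nat.card_pos (α := (M ⊓ T' : Subgroup G))
      have := Nat.mul_le_mul hle' (Nat.le_of_lt_succ (show T'.relIndex M < 3 + 1 by omega))
      omega
    have hmul := Nat.mul_le_mul (le_refl (Nat.card T')) (hq4.trans i2)
    have hT16 : Nat.card T = 16 := by omega
    have hP : Nat.card P = 64 := by omega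
    have hMeq : M = T := eq_of_le_of_card_ge hMT (by omega)
    set X := T ⊔ T' with hXd
    have hle2 : T ⊓ T' ≤ M ⊓ centralizer ({r} : Set G) := fun a ha => hle ⟨hMeq.ge ha.1, ha.2⟩
    have hle2' := Subgroup.card_le_of_le hle2
    have j1 : Nat.card (T ⊓ T' : Subgroup G) * T.relIndex T' = Nat.card T' := by
      have h := relIndex_mul_relIndex (⊥ : Subgroup G) (T ⊓ T') T' bot_le inf_le_right
      rwa [relIndex_bot_left, relIndex_bot_left, inf_relIndex_right] at h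
    have j2 : T.relIndex T' ≤ T.relIndex X := relIndex_le_of_le_right le_sup_right FiniteIndex.index_ne_zero
    have j3 : Nat.card T * T.relIndex X = Nat.card X := by
      have h := relIndex_mul_relIndex (⊥ : Subgroup G) T X bot_le le_sup_left
      rwa [relIndex_bot_left, relIndex_bot_left] at h
    have hq4' : 4 ≤ T.relIndex T' := by
      by_contra h
      have := Nat.card_pos (α := (T ⊓ T' : Subgroup G))
      have := Nat.mul_le_mul hle2' (Nat.le_of_lt_succ (show T.relIndex T' < 3 + 1 by omega))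
      omega
    have hmul' := Nat.mul_le_mul (le_refl (Nat.card T)) (hq4'.trans j2)
    have hX : X = P := eq_of_le_of_card_ge (sup_le hTP hT'P) (by omega)
    refine four_quot C.short hN hcore hTP inf_le_right hT16 hP hsyl (Or.inr fun p hp => ?_)
    have hp' : p ∈ T ⊔ T' := hX.ge hp
    rw [← SetLike.mem_coe, coe_mul_of_right_le_normalizer_left T T' (hT'P.trans inf_le_right), Set.mem_mul] at hp'
    obtain ⟨a, ha, b, hb, rfl⟩ := hp'
    have hbb : b * b = 1 := by
      obtain ⟨b₀, hb₀, rfl⟩ := hb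
      rw [← map_mul, (hMeq.ge hb₀).2.2, map_one]
    rw [show a * b * (a * b) = a * (b * a * b⁻¹) * (b * b) by group, hbb, mul_one]
    exact mul_mem ha ((mem_normalizer_iff.1 (hT'P hb).2 a).1 ha)

end Ctx

end CfsgLib.Invol.LengthEight
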