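import Mathlib.GroupTheory.Sylow

/-!
# Lengths of subgroup chains
-/

set_option autoImplicit false

namespace CfsgLib.Invol.LengthEight

open Subgroup

variable {G : Type*} [Group G]

/-- `H` has a descending chain of `n` steps. -/
inductive Ln : Subgroup G → ℕ → Prop
  | zero (H : Subgroup G) : Ln H 0
  | succ {H K : Subgroup G} {n : ℕ} (hlt : K < H) (h : Ln K n) : Ln H (n + 1)

theorem Ln.exists_fin {H : Subgroup G} {n : ℕ} (h : Ln H n) :
    ∃ c : Fin (n + 1) → Subgroup G, StrictAnti c ∧ c 0 = H := by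
  induction h with
  | zero H => exact ⟨fun _ => H, fun i j hij => absurd hij (by omega), rfl⟩
  | @succ H K n hlt _ ih =>
    obtain ⟨c, hc, h0⟩ := ih
    refine ⟨Fin.cons H c, Fin.strictAnti_iff_succ_lt.2 fun i => ?_, rfl⟩
    refine Fin.cases ?_ (fun j => ?_) i
    · simpa [h0] using hlt
    · simpa using Fin.strictAnti_iff_succ_lt.1 hc j

theorem Ln.of_le {n : ℕ} : ∀ {H : Subgroup G}, Ln H n → ∀ {m : ℕ}, m ≤ n → ∃ K : Subgroup G, Ln K m := by
  induction n with
  | zero => intro H h m hm; exact ⟨H, by rw [Nat.le_zero.1 hm]; exact h⟩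
  | succ n ih =>
    intro H h m hm
    rcases Nat.lt_or_ge n m with h1 | h1
    · exact ⟨H, by rw [show m = n + 1 by omega]; exact h⟩
    · cases h with
      | succ _ h' => exact ih h' h1

/-- No chain has more than eight steps. -/
def Short (G : Type*) [Group G] : Prop := ∀ c : Fin 10 → Subgroup G, ¬ StrictAnti c

theorem Short.le_eight (hs : Short G) {H : Subgroup G} {n : ℕ} (h : Ln H n) : n ≤ 8 := by
  by_contra hn
  obtain ⟨K, hK⟩ := h.of_le (show 9 ≤ n by omega)
  obtain ⟨c, hc, -⟩ := hK.exists_fin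
  exact hs c hc

theorem Short.le_seven (hs : Short G) {H : Subgroup G} {n : ℕ} (hH : H ≠ ⊤) (h : Ln H n) : n ≤ 7 := by
  have := hs.le_eight (Ln.succ (lt_top_iff_ne_top.2 hH) h)
  omega

theorem ln_two_group [Finite G] : ∀ {a : ℕ} {H : Subgroup G}, Nat.card H = 2 ^ a → Ln H a := by
  intro a
  induction a with
  | zero => intro H _; exact Ln.zero H
  | succ a ih =>
    intro H hH
    haveI : Fact (Nat.Prime 2) := ⟨Nat.prime_two⟩
    obtain ⟨K, hK⟩ := Sylow.exists_subgroup_card_pow_prime 2 (G := H) (n := a) (by rw [hH]; exact pow_dvd_pow 2 (Nat.le_succ a))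
    have hc : Nat.card (K.map H.subtype) = 2 ^ a := by rw [card_map_of_injective H.subtype_injective, hK]
    refine Ln.succ (lt_of_le_of_ne (map_subtype_le K) fun e => ?_) (ih hc)
    rw [e, hH, pow_succ] at hc
    have := pow_pos (show 0 < 2 by norm_num) a
    omega

/-- The bound for a 2-group strictly inside a proper subgroup. -/
theorem Short.two_bound [Finite G] (hs : Short G) {X H : Subgroup G} {a : ℕ} (hX : Nat.card X = 2 ^ a) (h : X < H)
    (hH : H ≠ ⊤) : a ≤ 6 := by
  have := hs.le_seven hH (Ln.succ h (ln_two_group hX))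
  omega

theorem Short.two_bound₂ [Finite G] (hs : Short G) {X Y H : Subgroup G} {a : ℕ} (hX : Nat.card X = 2 ^ a) (h : X < Y)
    (h' : Y < H) (hH : H ≠ ⊤) : a ≤ 5 := by
  have := hs.le_seven hH (Ln.succ h' (Ln.succ h (ln_two_group hX)))
  omega

/-- Chains in a quotient lift. -/
theorem Ln.lift {N : Subgroup G} {X : Type*} [Group X] {f : N →* X} (hf : Function.Surjective f) {T : Subgroup G}
    (hT : (f.ker).map N.subtype = T) {a : ℕ} (h : Ln T a) :
    ∀ {n : ℕ} (c : Fin (n + 1) → Subgroup X), StrictMono c → c 0 = ⊥ →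
      Ln ((((c (Fin.last n)).comap f).map N.subtype)) (a + n) := by
  intro n
  induction n with
  | zero =>
    intro c _ h0
    rw [show Fin.last 0 = 0 from rfl, h0, MonoidHom.comap_bot, hT]
    exact h
  | succ n ih =>
    intro c hc h0
    have h1 := ih (c ∘ Fin.castSucc) (fun i j hij => hc (by simpa using hij)) (by simpa using h0)
    refine Ln.succ (lt_of_le_of_ne (map_mono (comap_mono (hc (Fin.castSucc_lt_last (Fin.last n))).le)) fun e => ?_) h1
    exact (hc (Fin.castSucc_lt_last (Fin.last n))).ne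
      (comap_injective hf (map_injective N.subtype_injective e))

end CfsgLib.Invol.LengthEight
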