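import Cfsg.Agent.Lib.Invol.LengthEight.Chain
import Mathlib.GroupTheory.Transfer
import Mathlib.GroupTheory.SpecificGroups.Cyclic

/-!
# Local subgroups with small two-part over their core
-/

set_option autoImplicit false

namespace CfsgLib.Invol.LengthEight

open Subgroup

variable {G : Type*} [Group G] [Finite G]

/-- `T` is the largest normal 2-subgroup of `N`. -/
def IsCore (N T : Subgroup G) : Prop :=
  T ≤ N ∧ IsPGroup 2 T ∧ (T.subgroupOf N).Normal ∧
    ∀ O : Subgroup N, O.Normal → IsPGroup 2 O → T.subgroupOf N ≤ O → O ≤ T.subgroupOf N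

theorem perm_three {α : Type*} [Finite α] (h : Nat.card α = 3) : Nat.card (Equiv.Perm α) = 6 := by
  classical
  letI := Fintype.ofFinite α
  rw [Nat.card_eq_fintype_card] at h ⊢
  rw [Fintype.card_perm, h]; rfl

/-- The index over the core is not a larger power of two times three. -/
theorem three_index {N T : Subgroup G} (hc : IsCore N T) {e : ℕ} (hN : Nat.card N = 2 ^ e * 3)
    (hT : 4 * Nat.card T ≤ 2 ^ e) : False := by
  classical
  haveI : Fact (Nat.Prime 2) := ⟨Nat.prime_two⟩
  obtain ⟨hTN, hT2, hTn, hO⟩ := hc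
  haveI := hTn
  obtain ⟨U⟩ : Nonempty (Sylow 2 N) := inferInstance
  have hUc : Nat.card (U : Subgroup N) = 2 ^ e := by
    rw [U.card_eq_multiplicity, hN, Nat.factorization_mul (by positivity) (by norm_num),
      Nat.prime_two.factorization_pow, Finsupp.add_apply, Finsupp.single_eq_same,
      Nat.factorization_eq_zero_of_not_dvd (show ¬ 2 ∣ 3 by norm_num), add_zero]
  have hi : (U : Subgroup N).index = 3 := by
    have h := (U : Subgroup N).card_mul_index
    rw [hUc, hN] at h
    exact Nat.eq_of_mul_eq_mul_left (pow_pos two_pos e) h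
  have hTU : T.subgroupOf N ≤ (U : Subgroup N) := by
    obtain ⟨V, hV⟩ := (hT2.of_equiv (subgroupOfEquivOfLe hTN).symm).exists_le_sylow
    obtain ⟨g, rfl⟩ := MulAction.exists_smul_eq N V U
    intro t ht
    rw [Sylow.coe_subgroup_smul]
    exact ⟨g⁻¹ * t * g, hV (by simpa using hTn.conj_mem t ht g⁻¹), by
      show g * (g⁻¹ * t * g) * g⁻¹ = t
      group⟩
  set O := (U : Subgroup N).normalCore with hOd
  have hle : O ≤ T.subgroupOf N := hO O inferInstance (U.isPGroup'.to_le (normalCore_le _))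
    ((normal_le_normalCore).2 hTU)
  have hidx : O.index ∣ 6 := by
    rw [hOd, normalCore_eq_ker, index_ker, ← perm_three (α := N ⧸ (U : Subgroup N)) hi]
    exact card_subgroup_dvd_card _
  have h1 := O.card_mul_index
  rw [hN] at h1
  have h2 : Nat.card O ≤ Nat.card T :=
    (card_le_of_le hle).trans_eq (Nat.card_congr (subgroupOfEquivOfLe hTN).toEquiv)
  have h3 := Nat.le_of_dvd (by norm_num) hidx
  have h4 : 0 < Nat.card O := Nat.card_pos
  nlinarith

/-- No local subgroup has a four-element two-part over a core of order sixteen. -/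
theorem four_quot (hs : Short G) {N T P : Subgroup G} (hN : N ≠ ⊤) (hc : IsCore N T) (hTP : T ≤ P) (hPN : P ≤ N)
    (hT : Nat.card T = 16) (hP : Nat.card P = 64) (hsyl : ¬ 2 ∣ P.relIndex N)
    (h : 3 ∣ Nat.card N ∨ ∀ p ∈ P, p * p ∈ T) : False := by
  classical
  haveI : Fact (Nat.Prime 2) := ⟨Nat.prime_two⟩
  obtain ⟨hTN, hT2, hTn, hO⟩ := hc
  set T' := T.subgroupOf N with hT'
  haveI : T'.Normal := hTn
  set f := QuotientGroup.mk' T' with hf
  have hfs : Function.Surjective f := QuotientGroup.mk'_surjective T'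
  have hTc : Nat.card T' = 16 := (Nat.card_congr (subgroupOfEquivOfLe hTN).toEquiv).trans hT
  set P' := P.subgroupOf N with hP'
  have hPc : Nat.card P' = 64 := (Nat.card_congr (subgroupOfEquivOfLe hPN).toEquiv).trans hP
  have hTP' : T' ≤ P' := fun t ht => mem_subgroupOf.2 (hTP (mem_subgroupOf.1 ht))
  set Pb := P'.map f with hPb
  have hcomap : Pb.comap f = P' := comap_map_eq_self (by rw [hf, QuotientGroup.ker_mk']; exact hTP')
  have hidx : Pb.index = P'.index := by rw [← hcomap, index_comap_of_surjective _ hfs]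
  have hQc : Nat.card (N ⧸ T') * 16 = Nat.card N := by
    rw [← hTc, ← T'.card_eq_card_quotient_mul_card_subgroup]
  have hPbc : Nat.card Pb = 4 := by
    have h1 := Pb.card_mul_index
    have h2 := P'.card_mul_index
    rw [hidx] at h1
    rw [hPc] at h2
    have h0 : 0 < P'.index := Nat.pos_of_ne_zero index_ne_zero_of_finite
    nlinarith
  have hPb2 : IsPGroup 2 Pb := IsPGroup.of_card (n := 2) (by rw [hPbc]; norm_num)
  have hodd : ¬ 2 ∣ Pb.index := by rw [hidx]; exact hsyl
  -- a normal 2-subgroup of the quotient is trivial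
  have hO' : ∀ Y : Subgroup (N ⧸ T'), Y.Normal → IsPGroup 2 Y → Y = ⊥ := by
    intro Y hY hY2
    have hp : IsPGroup 2 (Y.comap f) := by
      intro u
      obtain ⟨k, hk⟩ := hY2 ⟨f u, u.2⟩
      have h1 : f ((u : N) ^ 2 ^ k) = 1 := by rw [map_pow]; exact congrArg Subtype.val hk
      have h2 : (u : N) ^ 2 ^ k ∈ T' := (QuotientGroup.eq_one_iff _).1 h1
      obtain ⟨l, hl⟩ := (hT2.of_equiv (subgroupOfEquivOfLe hTN).symm) ⟨_, h2⟩
      exact ⟨k + l, Subtype.ext (by
        have := congrArg Subtype.val hl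
        rw [Subgroup.coe_pow, Subgroup.coe_one] at this ⊢
        rw [pow_add, pow_mul]; exact this)⟩
    have hle := hO _ (hY.comap f) hp fun t ht => by
      rw [mem_comap, show f t = 1 from (QuotientGroup.eq_one_iff _).2 ht]; exact one_mem _
    refine (eq_bot_iff_forall _).2 fun y hy => ?_
    obtain ⟨u, rfl⟩ := hfs y
    exact (QuotientGroup.eq_one_iff _).2 (hle hy)
  have hne : Pb ≠ ⊥ := fun e => by rw [e, card_bot] at hPbc; norm_num at hPbc
  have hnn : ¬ Pb.Normal := fun hn => hne (hO' _ hn hPb2)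
  have hlift : ∀ {Y Z : Subgroup (N ⧸ T')}, Y < Z → (Y.comap f).map N.subtype < (Z.comap f).map N.subtype :=
    fun {Y Z} hYZ => lt_of_le_of_ne (map_mono (comap_mono hYZ.le)) fun e =>
      hYZ.ne (comap_injective hfs (map_injective N.subtype_injective e))
  have hPimg : (Pb.comap f).map N.subtype = P := by rw [hcomap, hP', map_subgroupOf_eq_of_le hPN]
  have hNimg : ((⊤ : Subgroup (N ⧸ T')).comap f).map N.subtype = N := by
    rw [comap_top, ← MonoidHom.range_eq_map, range_subtype]
  have hmax : ∀ Z : Subgroup (N ⧸ T'), Pb < Z → Z = ⊤ := by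
    intro Z hZ
    by_contra hne
    have h1 := hlift hZ
    rw [hPimg] at h1
    have h2 := hlift (lt_top_iff_ne_top.2 hne)
    rw [hNimg] at h2
    exact absurd (hs.two_bound₂ (a := 6) (by rw [hP]; norm_num) h1 h2 hN) (by norm_num)
  have hnorm : normalizer (Pb : Set (N ⧸ T')) = Pb := by
    by_contra hne'
    exact hnn (normalizer_eq_top_iff.1 (hmax _ (lt_of_le_of_ne le_normalizer (Ne.symm hne'))))
  have hab : ∀ a ∈ Pb, ∀ b ∈ Pb, a * b = b * a := fun a ha b hb => by
    letI := IsPGroup.commGroupOfCardEqPrimeSq (p := 2) (G := Pb) (by rw [hPbc]; norm_num)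
    exact congrArg Subtype.val (mul_comm (⟨a, ha⟩ : Pb) ⟨b, hb⟩)
  set U := hPb2.toSylow hodd with hU
  have hUe : (U : Subgroup (N ⧸ T')) = Pb := rfl
  have hle : normalizer ((U : Subgroup (N ⧸ T')) : Set (N ⧸ T')) ≤ centralizer (U : Set (N ⧸ T')) := by
    show normalizer (Pb : Set (N ⧸ T')) ≤ centralizer (Pb : Set (N ⧸ T'))
    rw [hnorm]
    exact fun a ha => mem_centralizer_iff.2 fun b hb => hab b hb a ha
  set K := (MonoidHom.transferSylow U hle).ker with hK
  have hcomp : IsComplement' K Pb := MonoidHom.ker_transferSylow_isComplement' U hle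
  have hKc := hcomp.card_mul_card
  rw [hPbc] at hKc
  have hKP : K ⊔ Pb = ⊤ := hcomp.sup_eq_top
  have hm : K ≠ ⊥ := fun e => by
    rw [e, bot_sup_eq] at hKP
    exact hnn (by rw [hKP]; infer_instance)
  have hKidx : K.index = 4 := by
    have h1 := K.card_mul_index
    have h2 : 0 < Nat.card K := Nat.card_pos
    nlinarith
  have hKodd : ¬ 2 ∣ Nat.card K := by
    rw [hidx] at hodd
    have h1 := Pb.card_mul_index
    rw [hPbc, hidx] at h1
    rwa [show Nat.card K = P'.index by linarith]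
  obtain ⟨p, hp, hpd⟩ := Nat.exists_prime_and_dvd (show Nat.card K ≠ 1 from fun e => hm (card_eq_one.1 e))
  haveI : Fact p.Prime := ⟨hp⟩
  obtain ⟨k, hk⟩ := exists_prime_orderOf_dvd_card' (G := K) p hpd
  have hkL : Nat.card (zpowers (k : N ⧸ T')) = p := by rw [Nat.card_zpowers, Subgroup.orderOf_coe, hk]
  have hLK : zpowers (k : N ⧸ T') ≤ K := zpowers_le.2 k.2
  -- the complement has prime order
  have hKp : zpowers (k : N ⧸ T') = K := by
    by_contra hne'
    obtain ⟨r, hr⟩ := exists_prime_orderOf_dvd_card' (G := (N ⧸ T') ⧸ K) 2 (by rw [← index_eq_card, hKidx]; norm_num)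
    set Y := (zpowers r).comap (QuotientGroup.mk' K) with hY
    have hYc : Nat.card (zpowers r) = 2 := by rw [Nat.card_zpowers, hr]
    have hcard4 : Nat.card ((N ⧸ T') ⧸ K) = 4 := by rw [← index_eq_card, hKidx]
    have hKY : K < Y := by
      have h0 : (⊥ : Subgroup ((N ⧸ T') ⧸ K)) < zpowers r := bot_lt_iff_ne_bot.2 fun e => by
        rw [e, card_bot] at hYc; norm_num at hYc
      have := (comap_lt_comap_of_surjective (QuotientGroup.mk'_surjective K)).2 h0
      rwa [MonoidHom.comap_bot, QuotientGroup.ker_mk'] at this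
    have hYt : Y < ⊤ := by
      have h0 : zpowers r < ⊤ := lt_top_iff_ne_top.2 fun e => by
        rw [e, card_top, hcard4] at hYc; norm_num at hYc
      have := (comap_lt_comap_of_surjective (QuotientGroup.mk'_surjective K)).2 h0
      rwa [comap_top] at this
    have hb : (⊥ : Subgroup (N ⧸ T')) < zpowers (k : N ⧸ T') := bot_lt_iff_ne_bot.2 fun e => by
      rw [e, card_bot] at hkL; exact hp.ne_one hkL.symm
    let c : Fin 5 → Subgroup (N ⧸ T') := ![⊥, zpowers (k : N ⧸ T'), K, Y, ⊤]
    have hcm : StrictMono c := Fin.strictMono_iff_lt_succ.2 fun i => by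
      fin_cases i
      · exact hb
      · exact lt_of_le_of_ne hLK hne'
      · exact hKY
      · exact hYt
    have hker : (f.ker).map N.subtype = T := by rw [hf, QuotientGroup.ker_mk', hT', map_subgroupOf_eq_of_le hTN]
    have hL := Ln.lift (n := 4) hfs hker (ln_two_group (a := 4) (by rw [hT]; norm_num)) c hcm rfl
    rw [show c (Fin.last 4) = ⊤ from rfl, hNimg] at hL
    exact absurd (hs.le_seven hN hL) (by norm_num)
  have hKab : ∀ a ∈ K, ∀ b ∈ K, a * b = b * a := fun a ha b hb => by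
    rw [← hKp] at ha hb
    obtain ⟨i, rfl⟩ := mem_zpowers_iff.1 ha
    obtain ⟨j, rfl⟩ := mem_zpowers_iff.1 hb
    exact ((Commute.refl _).zpow_zpow i j).eq
  have hgen : ∀ a ∈ K, a ≠ 1 → zpowers a = K := fun a ha ha1 => by
    refine eq_of_le_of_card_ge (zpowers_le.2 ha) ?_
    rw [← hKp, hkL, Nat.card_zpowers]
    rw [← hKp] at ha
    have h1 := orderOf_dvd_of_mem_zpowers ha
    rw [Subgroup.orderOf_coe, hk] at h1
    rcases (Nat.dvd_prime hp).1 h1 with h2 | h2
    · exact absurd (orderOf_eq_one_iff.1 h2) ha1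
    · exact h2.ge
  -- no element of the two-part centralizes the complement
  have hfaith : ∀ r ∈ Pb, (∀ a ∈ K, r * a = a * r) → r = 1 := by
    intro r hr hrK
    have hcen : r ∈ center (N ⧸ T') := by
      have hle : K ⊔ Pb ≤ centralizer ({r} : Set (N ⧸ T')) := sup_le
        (fun a ha => mem_centralizer_singleton_iff.2 (hrK a ha).symm)
        (fun a ha => mem_centralizer_singleton_iff.2 (hab a ha r hr))
      rw [hKP] at hle
      exact mem_center_iff.2 fun g => mem_centralizer_singleton_iff.1 (hle (mem_top g))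
    have hn : (zpowers r).Normal := ⟨fun a ha g => by
      obtain ⟨i, rfl⟩ := mem_zpowers_iff.1 ha
      rw [mem_center_iff.1 (zpow_mem hcen i) g, mul_inv_cancel_right]
      exact zpow_mem_zpowers r i⟩
    have := hO' _ hn (hPb2.to_le (zpowers_le.2 hr))
    exact zpowers_eq_bot.1 this
  have hKn : K.Normal := MonoidHom.normal_ker _
  have hinv : ∀ r ∈ Pb, r * r = 1 → r ≠ 1 → r * (k : N ⧸ T') * r⁻¹ = (k : N ⧸ T')⁻¹ := by
    intro r hr hr2 hr1
    have hm := hKn.conj_mem _ k.2 r
    refine eq_inv_of_mul_eq_one_right (by_contra fun hne' => hr1 (hfaith r hr ?_))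
    have hfix : r * ((k : N ⧸ T') * (r * k * r⁻¹)) * r⁻¹ = (k : N ⧸ T') * (r * k * r⁻¹) := by
      calc r * ((k : N ⧸ T') * (r * k * r⁻¹)) * r⁻¹ = r * k * r⁻¹ * ((r * r) * k * (r * r)⁻¹) := by group
        _ = _ := by rw [hr2, inv_one, one_mul, mul_one]; exact hKab _ hm _ k.2
    intro a ha
    rw [← hgen _ (mul_mem k.2 hm) hne'] at ha
    obtain ⟨i, rfl⟩ := mem_zpowers_iff.1 ha
    exact ((show Commute r _ from mul_inv_eq_iff_eq_mul.1 hfix).zpow_right i).eq
  have hk1 : (k : N ⧸ T') ≠ 1 := fun e => by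
    rw [e, zpowers_one_eq_bot, card_bot] at hkL; exact hp.ne_one hkL.symm
  have hsq : ∀ g ∈ Pb, g * g = 1 := by
    rcases h with h3 | hel
    · intro g hg
      have hdvd : 3 ∣ Nat.card K := by
        rw [← hQc, ← hKc] at h3
        exact (Nat.Coprime.dvd_of_dvd_mul_right (by norm_num : Nat.Coprime 3 4))
          ((Nat.Coprime.dvd_of_dvd_mul_right (by norm_num : Nat.Coprime 3 16)) h3)
      rw [← hKp, hkL] at hdvd
      obtain rfl : (3 : ℕ) = p := (Nat.prime_dvd_prime_iff_eq Nat.prime_three hp).1 hdvd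
      refine hfaith _ (mul_mem hg hg) fun a ha => ?_
      have hpk : ∀ w : N ⧸ T', w * (k : N ⧸ T') * w⁻¹ = k ∨ w * (k : N ⧸ T') * w⁻¹ = (k : N ⧸ T') * k ∨
          w * (k : N ⧸ T') * w⁻¹ = 1 := fun w => by
        have hm : w * (k : N ⧸ T') * w⁻¹ ∈ zpowers (k : N ⧸ T') := hKp.ge (hKn.conj_mem _ k.2 w)
        obtain ⟨n, hn⟩ := (Submonoid.mem_powers_iff _ _).1 (mem_powers_iff_mem_zpowers.2 hm)
        have hk3 : (k : N ⧸ T') ^ 3 = 1 := by rw [← hk, ← Subgroup.orderOf_coe, pow_orderOf_eq_one]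
        rw [pow_eq_pow_mod n hk3] at hn
        have hlt := Nat.mod_lt n (show 0 < 3 by norm_num)
        interval_cases (n % 3)
        · exact Or.inr (Or.inr (by rw [← hn, pow_zero]))
        · exact Or.inl (by rw [← hn, pow_one])
        · exact Or.inr (Or.inl (by rw [← hn, pow_two]))
      have hgg : g * g * (k : N ⧸ T') * (g * g)⁻¹ = k := by
        rw [show g * g * (k : N ⧸ T') * (g * g)⁻¹ = g * (g * k * g⁻¹) * g⁻¹ by group]
        rcases hpk g with e | e | e
        · rw [e, e]
        · rw [e, show g * ((k : N ⧸ T') * k) * g⁻¹ = g * k * g⁻¹ * (g * k * g⁻¹) by group, e]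
          have hk3 : (k : N ⧸ T') ^ 3 = 1 := by rw [← hk, ← Subgroup.orderOf_coe, pow_orderOf_eq_one]
          calc (k : N ⧸ T') * k * (k * k) = (k : N ⧸ T') ^ 3 * k := by
                simp only [pow_succ, pow_zero, one_mul, mul_assoc]
            _ = k := by rw [hk3, one_mul]
        · exact absurd (conj_eq_one_iff.1 e) hk1
      rw [← hKp] at ha
      obtain ⟨i, rfl⟩ := mem_zpowers_iff.1 ha
      exact ((show Commute (g * g) (k : N ⧸ T') from mul_inv_eq_iff_eq_mul.1 hgg).zpow_right i).eq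
    · rintro g ⟨n, hn, rfl⟩
      rw [← map_mul]
      exact (QuotientGroup.eq_one_iff _).2 (mem_subgroupOf.2 (hel _ (mem_subgroupOf.1 hn)))
  obtain ⟨r, hr, hr1⟩ : ∃ r ∈ Pb, r ≠ 1 := by
    by_contra hall
    push Not at hall
    exact hne ((eq_bot_iff_forall _).2 hall)
  obtain ⟨r', hr', hr1', hrr⟩ : ∃ r' ∈ Pb, r' ≠ 1 ∧ r' ≠ r := by
    by_contra hall
    push Not at hall
    have hsub : Pb ≤ zpowers r := fun a ha => by
      by_cases ha1 : a = 1
      · rw [ha1]; exact one_mem _
      · rw [hall a ha ha1]; exact mem_zpowers r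
    have h1 := card_le_of_le hsub
    rw [hPbc, Nat.card_zpowers, orderOf_eq_prime (by rw [pow_two, hsq r hr]) hr1] at h1
    norm_num at h1
  have i1 := hinv r hr (hsq r hr) hr1
  have i2 := hinv r' hr' (hsq r' hr') hr1'
  refine hrr (mul_inv_eq_one.1 (hfaith (r' * r⁻¹) (mul_mem hr' (inv_mem hr)) fun a ha => ?_))
  have hfix : r' * r⁻¹ * (k : N ⧸ T') * (r' * r⁻¹)⁻¹ = k := by
    rw [inv_eq_of_mul_eq_one_right (hsq r hr)]
    calc r' * r * (k : N ⧸ T') * (r' * r)⁻¹ = r' * (r * k * r⁻¹) * r'⁻¹ := by group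
      _ = k := by rw [i1, ← conj_inv, i2, inv_inv]
  rw [← hKp] at ha
  obtain ⟨i, rfl⟩ := mem_zpowers_iff.1 ha
  exact ((show Commute (r' * r⁻¹) (k : N ⧸ T') from mul_inv_eq_iff_eq_mul.1 hfix).zpow_right i).eq

end CfsgLib.Invol.LengthEight
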