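import Cfsg.Agent.Lib.Invol.LengthEight.Central
import Cfsg.Agent.Lib.PGroup.MillerTwo
import Cfsg.Agent.Lib.PGroup.MaxClassRecog
import Cfsg.Agent.Lib.Invol.QDTransfer
import Cfsg.Agent.Lib.Classical.PSL2Spectrum
import Cfsg.Agent.Lib.Classical.ProjLine
import Cfsg.Agent.S0201
import Cfsg.Agent.S0508

/-!
# The simple groups of length eight with Sylow 2-subgroups of order 128
-/

set_option autoImplicit false

namespace CfsgLib.Invol.LengthEight

open Subgroup

universe u

variable {G : Type u} [Group G] [Finite G]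

namespace Ctx

variable {S : Sylow 2 G} (C : Ctx S)
include C

/-- The Sylow subgroup has no normal four subgroup. -/
theorem no_normal_four {U : Subgroup (S : Subgroup G)} (hn : U.Normal) (h4 : Nat.card U = 4)
    (h2 : ∀ x ∈ U, x ^ 2 = 1) : False := by
  classical
  set E := U.map (S : Subgroup G).subtype with hE
  have hES : E ≤ (S : Subgroup G) := map_subtype_le _
  have hE4 : Nat.card E = 4 := (card_map_of_injective (subtype_injective _)).trans h4
  have hE2 : ∀ e ∈ E, e * e = 1 := by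
    rintro _ ⟨a, ha, rfl⟩
    rw [← map_mul, ← pow_two, h2 a ha, map_one]
  have hEn : ∀ e ∈ E, ∀ s ∈ (S : Subgroup G), s * e * s⁻¹ ∈ E := by
    rintro _ ⟨a, ha, rfl⟩ s hs
    exact ⟨⟨s, hs⟩ * a * ⟨s, hs⟩⁻¹, hn.conj_mem a ha _, rfl⟩
  by_cases hc : ∀ e ∈ E, ∀ s ∈ (S : Subgroup G), s * e = e * s
  · exact C.central_false hES hE4 hE2 hc
  push Not at hc
  obtain ⟨q, hq, s₀, hs₀, hs₀q⟩ := hc
  set O := {y : G | ∃ s ∈ (S : Subgroup G), s * q * s⁻¹ = y} with hO
  have horb := card_orbit (S : Subgroup G) q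
  rw [C.card] at horb
  have hOc : O.ncard = Nat.card {y : G // ∃ s ∈ (S : Subgroup G), s * q * s⁻¹ = y} := (Nat.card_coe_set_eq O).symm
  have hqO : q ∈ O := ⟨1, one_mem _, by group⟩
  have hq'O : s₀ * q * s₀⁻¹ ∈ O := ⟨s₀, hs₀, rfl⟩
  set q' := s₀ * q * s₀⁻¹ with hq'
  have hne : q' ≠ q := fun e => hs₀q (mul_inv_eq_iff_eq_mul.1 e)
  have hq1 : q ≠ 1 := fun e => hs₀q (by rw [e]; simp)
  have hsub : O ⊆ (E : Set G) \ {1} := by
    rintro _ ⟨s, hs, rfl⟩
    exact ⟨hEn q hq s hs, fun e => hq1 (conj_eq_one_iff.1 e)⟩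
  have h3 : O.ncard ≤ 3 := by
    refine (Set.ncard_le_ncard hsub).trans_eq ?_
    rw [Set.ncard_sdiff (Set.singleton_subset_iff.2 (one_mem E)), Set.ncard_singleton, ← Nat.card_coe_set_eq,
      SetLike.coe_sort_coe, hE4]
  have hpair : ({q, q'} : Set G) ⊆ O := Set.insert_subset hqO (Set.singleton_subset_iff.2 hq'O)
  have h2' := Set.ncard_le_ncard hpair
  rw [Set.ncard_pair hne.symm] at h2'
  have hdvd : O.ncard ∣ 2 ^ 7 := hOc ▸ Dvd.intro _ horb
  have hcard : O.ncard = 2 := by
    rcases (show O.ncard = 2 ∨ O.ncard = 3 by omega) with h | h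
    · exact h
    · rw [h] at hdvd; norm_num at hdvd
  have hOeq : ({q, q'} : Set G) = O := Set.eq_of_subset_of_ncard_le hpair (by rw [hcard, Set.ncard_pair hne.symm])
  have hmem : ∀ s ∈ (S : Subgroup G), ∀ a ∈ O, s * a * s⁻¹ = q ∨ s * a * s⁻¹ = q' := by
    rintro s hs _ ⟨t, ht, rfl⟩
    have h : s * (t * q * t⁻¹) * s⁻¹ ∈ O := ⟨s * t, mul_mem hs ht, by group⟩
    rw [← hOeq] at h
    exact h
  have hq'E : q' ∈ E := hEn q hq s₀ hs₀
  have hqq : q * q' = q' * q := by
    have h := hE2 _ (mul_mem hq hq'E)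
    calc q * q' = (q * q')⁻¹ := (inv_eq_of_mul_eq_one_right h).symm
      _ = q' * q := by rw [mul_inv_rev, inv_eq_of_mul_eq_one_right (hE2 q hq), inv_eq_of_mul_eq_one_right (hE2 q' hq'E)]
  set z := q * q' with hz
  have hqz : q * z = q' := by rw [hz, ← mul_assoc, hE2 q hq, one_mul]
  refine C.noncentral_false (z := z) (q := q) ?_ (hE2 _ (mul_mem hq hq'E)) (hES (mul_mem hq hq'E)) ?_ (hES hq)
    (hE2 q hq) ?_ (fun h => hs₀q (h s₀ hs₀))
  · intro e
    exact hne (by rw [← hqz, e, mul_one])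
  · intro s hs
    refine mul_inv_eq_iff_eq_mul.1 ?_
    rw [show s * z * s⁻¹ = (s * q * s⁻¹) * (s * q' * s⁻¹) by rw [hz]; group]
    have hinj : s * q * s⁻¹ ≠ s * q' * s⁻¹ := fun e => hne (mul_left_cancel (mul_right_cancel e)).symm
    rcases hmem s hs q hqO with a | a <;> rcases hmem s hs q' hq'O with b | b <;> rw [a, b] at hinj ⊢ <;>
      first
        | exact absurd rfl hinj
        | exact hqq.symm
        | rfl
  · intro s hs
    rw [hqz]
    exact hmem s hs q hqO

theorem exists_central : ∃ z : G, orderOf z = 2 ∧ z ∈ (S : Subgroup G) ∧ ∀ s ∈ (S : Subgroup G), s * z = z * s := by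
  haveI : Fact (Nat.Prime 2) := ⟨Nat.prime_two⟩
  haveI : Nontrivial (S : Subgroup G) := by rw [← Finite.one_lt_card_iff_nontrivial, C.card]; norm_num
  haveI := S.isPGroup'.center_nontrivial
  obtain ⟨k, hk, e⟩ := (S.isPGroup'.to_subgroup (Subgroup.center (S : Subgroup G))).nontrivial_iff_card.1
    inferInstance
  obtain ⟨z, hz⟩ := exists_prime_orderOf_dvd_card' (G := Subgroup.center (S : Subgroup G)) 2
    (e ▸ dvd_pow_self 2 hk.ne')
  exact ⟨((z : (S : Subgroup G)) : G), by rw [Subgroup.orderOf_coe, Subgroup.orderOf_coe, hz], SetLike.coe_mem _,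
    fun x hx => congrArg Subtype.val (mem_center_iff.1 z.2 ⟨x, hx⟩)⟩

theorem not_cyclic : ¬ IsCyclic (S : Subgroup G) := by
  intro hc
  obtain ⟨z, hz, hzS, hzc⟩ := C.exists_central
  have hz1 : z ≠ 1 := fun h => by rw [h, orderOf_one] at hz; omega
  obtain ⟨g, hg, hne⟩ := C.exists_fused hz1 (by rw [← pow_two, ← hz, pow_orderOf_eq_one])
  have h2 : orderOf (g * z * g⁻¹) = 2 := invol_conj hz g
  haveI := hc
  haveI := Fintype.ofFinite (S : Subgroup G)
  classical
  have h := IsCyclic.card_pow_eq_one_le (α := (S : Subgroup G)) (show 0 < 2 by norm_num)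
  have hsub : ({1, ⟨z, hzS⟩, ⟨g * z * g⁻¹, hg⟩} : Finset (S : Subgroup G)) ⊆
      Finset.univ.filter (fun a => a ^ 2 = 1) := by
    intro a ha
    simp only [Finset.mem_insert, Finset.mem_singleton] at ha
    simp only [Finset.mem_filter, Finset.mem_univ, true_and]
    rcases ha with rfl | rfl | rfl
    · exact one_pow 2
    · exact Subtype.ext (by rw [Subgroup.coe_pow, Subgroup.coe_one, pow_two]; exact invol_mul_self hz)
    · exact Subtype.ext (by rw [Subgroup.coe_pow, Subgroup.coe_one, pow_two]; exact invol_mul_self h2)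
  have h3 := (Finset.card_le_card hsub).trans h
  rw [Finset.card_insert_of_notMem, Finset.card_insert_of_notMem, Finset.card_singleton] at h3
  · omega
  · simp only [Finset.mem_singleton, Subtype.ext_iff]
    exact fun e => hne e.symm
  · simp only [Finset.mem_insert, Finset.mem_singleton, Subtype.ext_iff, Subgroup.coe_one, not_or]
    exact ⟨fun e => hz1 e.symm, fun e => hz1 (conj_eq_one_iff.1 e.symm)⟩

theorem not_quasiDihedral (hQ : Cfsg.IsQuasiDihedral (S : Subgroup G)) : False := by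
  haveI := C.simple
  obtain ⟨k, a, b, hk, -, Q⟩ := CfsgLib.Invol.exists_qdFrame hQ
  by_cases h4 : CfsgLib.Invol.FusedFour a b ((2 : ℤ) ^ (k - 2))
  · obtain ⟨i, hi, hconj⟩ := h4
    obtain ⟨g, hg⟩ := isConj_iff.1 hconj
    set T := CfsgLib.Invol.rotG a (2 * (2 : ℤ) ^ (k - 2)) with hT
    have hgT : g * T * g⁻¹ = T := by
      calc g * T * g⁻¹ = (g * CfsgLib.Invol.refG a b i * g⁻¹) * (g * CfsgLib.Invol.refG a b i * g⁻¹) := by
            rw [hT, ← Q.sq_refG_odd hi]; group
        _ = T := by rw [hg, CfsgLib.Invol.QDFrame.sq_quarter]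
    have hT1 : T ≠ 1 := fun h => by
      have h2 := Q.orderOf_centerG
      rw [← hT, h, orderOf_one] at h2
      omega
    have hgS : g ∈ (S : Subgroup G) :=
      (C.comm_iff hT1 fun x hx => Q.commute_center hx).1 (mul_inv_eq_iff_eq_mul.1 hgT)
    have hr : g⁻¹ * CfsgLib.Invol.rotG a ((2 : ℤ) ^ (k - 2)) * g⁻¹⁻¹ = CfsgLib.Invol.refG a b i := by
      rw [← hg]; group
    rcases Q.conj_quarterG (inv_mem hgS) with e | e <;> rw [hr] at e <;>
      exact Q.rotG_ne_refG _ _ e.symm
  · obtain ⟨H, hH, -⟩ := Q.exists_index_two_four h4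
    rcases (Subgroup.normal_of_index_eq_two hH).eq_bot_or_eq_top with h | h
    · rw [h, index_bot] at hH
      exact C.noncomm (isMulCommutative_iff.2 (by
        haveI : IsCyclic G := isCyclic_of_prime_card hH
        letI : CommGroup G := IsCyclic.commGroup
        exact mul_comm))
    · rw [h, index_top] at hH; omega

theorem even_card : 2 ∣ Nat.card G :=
  (show 2 ∣ Nat.card (S : Subgroup G) by rw [C.card]; norm_num).trans (card_subgroup_dvd_card _)

theorem not_quaternion (h : Nonempty ((S : Subgroup G) ≃* QuaternionGroup (2 ^ 5))) : False := by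
  haveI := C.simple
  obtain ⟨e⟩ := h
  have h1 := Cfsg.Agent.S0201.result S 4 e fun N hN hodd => by
    rcases hN.eq_bot_or_eq_top with h | h
    · exact h
    · exfalso
      rw [h, Subgroup.card_top] at hodd
      exact (Nat.not_even_iff_odd.2 hodd) (even_iff_two_dvd.2 C.even_card)
  rw [C.center_bot, card_bot] at h1
  omega

theorem psl_of_dihedral (h : Nonempty ((S : Subgroup G) ≃* DihedralGroup (2 ^ 6))) :
    ∃ (F : Type) (_ : Field F) (_ : Fintype F), Fintype.card F = 127 ∧
      Nonempty (G ≃* Matrix.ProjectiveSpecialLinearGroup (Fin 2) F) := by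
  classical
  haveI := C.simple
  haveI : Fact (Nat.Prime 2) := ⟨Nat.prime_two⟩
  obtain ⟨t, ht, htS, htZ⟩ := C.exists_central
  have ht1 : t ≠ 1 := fun h => by rw [h, orderOf_one] at ht; omega
  have hC2 : IsPGroup 2 (centralizer ({t} : Set G)) := by rw [C.cent_eq ht1 htZ]; exact sylow_two
  set O := (Cfsg.oddCore (Subgroup.centralizer ({t} : Set G))).map
    (Subgroup.centralizer ({t} : Set G)).subtype with hO
  have hbot : O = ⊥ := by
    rw [hO, Subgroup.map_eq_bot_iff_of_injective _ (Subgroup.subtype_injective _)]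
    obtain ⟨j, hj⟩ := (hC2.to_subgroup (Cfsg.oddCore (Subgroup.centralizer ({t} : Set G)))).exists_card_eq
    have h1 := CfsgLib.Coprime.pPrimeCore_coprime (G := Subgroup.centralizer ({t} : Set G)) Nat.prime_two
    rcases j with _ | j
    · exact card_eq_one.1 (by rw [hj, pow_zero])
    · exfalso
      unfold Cfsg.oddCore at hj
      rw [hj] at h1
      exact (Nat.prime_two.coprime_iff_not_dvd).1 h1.symm (dvd_pow_self 2 (Nat.succ_ne_zero j))
  obtain ⟨F, iF, iFt, hodd, ⟨φ⟩⟩ := Cfsg.Agent.S0508.result S (2 ^ 6) (by norm_num) h t ht htS htZ O hO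
    (fun h => absurd hbot h)
    (fun x _ hx => absurd (mem_centralizer_iff.2 fun y hy => by
      rw [hbot, coe_bot, Set.mem_singleton_iff] at hy
      rw [hy, one_mul, mul_one]) hx)
    (fun Y hY hY1 => absurd (le_bot_iff.1 (hbot ▸ hY)) hY1)
  refine ⟨F, iF, iFt, ?_, ⟨φ⟩⟩
  set n := Fintype.card F with hn
  have ho : n % 2 = 1 := Nat.odd_iff.1 hodd
  have hn3 : 3 ≤ n := by
    have := Fintype.one_lt_card (α := F)
    omega
  -- an element of order divisible by 64 is a 2-element
  obtain ⟨e⟩ := h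
  have key : ∀ k : ℕ, 64 ∣ k → (∃ g : Matrix.ProjectiveSpecialLinearGroup (Fin 2) F, orderOf g = k) →
      ∃ j : ℕ, k = 2 ^ j := by
    rintro k ⟨r, hkr⟩ ⟨g₀, hg₀⟩
    set g := φ.symm g₀ with hg
    have hgo : orderOf g = k := by rw [hg, φ.symm.orderOf_eq, hg₀]
    have hpos := orderOf_pos g
    rw [hgo, hkr] at hpos
    have ho64 : orderOf (g ^ r) = 64 := by
      rw [orderOf_pow_of_dvd (by rintro rfl; simp at hpos) (hgo ▸ Dvd.intro_left 64 hkr.symm), hgo, hkr,
        Nat.mul_div_cancel _ (by omega)]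
    obtain ⟨c, hc⟩ := exists_conj_le (S := S) (U := zpowers (g ^ r))
      (IsPGroup.of_card (n := 6) (by rw [Nat.card_zpowers, ho64]; norm_num))
    obtain ⟨b, hb, hbg⟩ := hc (mem_zpowers _)
    change c * b * c⁻¹ = g ^ r at hbg
    have hbo : orderOf b = 64 := by
      rw [← MulEquiv.orderOf_eq (MulAut.conj c) b]
      exact (congrArg orderOf hbg).trans ho64
    have hb1 : b ^ 32 ≠ 1 := fun h => by
      have := Nat.le_of_dvd (by norm_num) (orderOf_dvd_of_pow_eq_one h); omega
    have hbc : ∀ s ∈ (S : Subgroup G), s * b ^ 32 = b ^ 32 * s := by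
      intro s hs
      have heb : orderOf (e ⟨b, hb⟩) = 64 := by rw [e.orderOf_eq, ← Subgroup.orderOf_coe]; exact hbo
      have h1 : e (⟨s, hs⟩ * ⟨b, hb⟩ ^ 32) = e (⟨b, hb⟩ ^ 32 * ⟨s, hs⟩) := by
        rw [map_mul, map_mul, map_pow]
        rcases hx : e ⟨b, hb⟩ with i | i
        · rw [DihedralGroup.r_pow]
          rcases hy : e ⟨s, hs⟩ with j | j
          · rw [DihedralGroup.r_mul_r, DihedralGroup.r_mul_r, add_comm]
          · rw [DihedralGroup.sr_mul_r, DihedralGroup.r_mul_sr]
            congr 1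
            have h0 : i * (32 : ℕ) + i * (32 : ℕ) = 0 := by
              rw [← mul_add, ← Nat.cast_add, show ((32 + 32 : ℕ) : ZMod (2 ^ 6)) = 0 from ZMod.natCast_self 64,
                mul_zero]
            linear_combination h0
        · rw [hx, DihedralGroup.orderOf_sr] at heb; omega
      exact congrArg Subtype.val (e.injective h1)
    have hcomm : g * (c * b ^ 32 * c⁻¹) = c * b ^ 32 * c⁻¹ * g := by
      rw [← conj_pow, hbg, ← pow_mul]
      exact (Commute.self_pow g (r * 32)).eq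
    have hgS := (C.comm_conj_iff hb1 hbc).1 hcomm
    obtain ⟨j, hj⟩ := sylow_two (S := S) ⟨_, hgS⟩
    have hj' : (c⁻¹ * g * c) ^ 2 ^ j = 1 := congrArg Subtype.val hj
    obtain ⟨i, -, hi⟩ := (Nat.dvd_prime_pow Nat.prime_two).1 (orderOf_dvd_of_pow_eq_one hj')
    refine ⟨i, ?_⟩
    rw [← hi, show c⁻¹ * g * c = MulAut.conj c⁻¹ g by simp, MulEquiv.orderOf_eq, hgo]
  -- the 2-part of the order
  have hcard := CfsgLib.Classical.card_psl2 (F := F)
  rw [show Nat.gcd 2 (Fintype.card F - 1) = 2 from Nat.gcd_eq_left (by omega), ← Nat.card_congr φ.toEquiv, ← hn]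
    at hcard
  have hG2 : (Nat.card G).factorization 2 = 7 := by
    have h1 := S.card_eq_multiplicity
    rw [C.card] at h1
    exact (Nat.pow_right_injective (le_refl 2) h1).symm
  have hfac : ((n - 1) * (n + 1)).factorization 2 = 8 := by
    have h1 : (2 * Nat.card G).factorization 2 = (n * ((n - 1) * (n + 1))).factorization 2 := by rw [hcard]
    rw [Nat.factorization_mul (by norm_num) Nat.card_pos.ne', Nat.factorization_mul (by omega)
      (Nat.mul_ne_zero (by omega) (by omega)), Finsupp.add_apply, Finsupp.add_apply, hG2,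
      Nat.Prime.factorization_self Nat.prime_two,
      Nat.factorization_eq_zero_of_not_dvd (show ¬ 2 ∣ n by omega), zero_add] at h1
    exact h1.symm
  -- the even half
  have hhalf : ∀ k k' : ℕ, (n - 1) * (n + 1) = 4 * (k * k') → 0 < k → k' % 2 = 1 → 64 ∣ k := by
    intro k k' h hk hk'
    rw [h, Nat.factorization_mul (by norm_num) (Nat.mul_ne_zero hk.ne' (by omega)),
      Nat.factorization_mul hk.ne' (by omega), Finsupp.add_apply, Finsupp.add_apply,
      show (4 : ℕ) = 2 ^ 2 by norm_num, Nat.prime_two.factorization_pow, Finsupp.single_eq_same,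
      Nat.factorization_eq_zero_of_not_dvd (show ¬ 2 ∣ k' by omega), add_zero] at hfac
    exact (Nat.prime_two.pow_dvd_iff_le_factorization hk.ne').2 (show 6 ≤ k.factorization 2 by omega)
  have hpow : ∀ k k' : ℕ, (n - 1) * (n + 1) = 4 * (k * k') → 0 < k → k' % 2 = 1 →
      (∃ g : Matrix.ProjectiveSpecialLinearGroup (Fin 2) F, orderOf g = k) → k = 64 := by
    intro k k' h hk hk' hg
    obtain ⟨j, rfl⟩ := key k (hhalf k k' h hk hk') hg
    rw [h, Nat.factorization_mul (by norm_num) (Nat.mul_ne_zero hk.ne' (by omega)),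
      Nat.factorization_mul hk.ne' (by omega), Finsupp.add_apply, Finsupp.add_apply,
      show (4 : ℕ) = 2 ^ 2 by norm_num, Nat.prime_two.factorization_pow, Finsupp.single_eq_same,
      Nat.prime_two.factorization_pow, Finsupp.single_eq_same,
      Nat.factorization_eq_zero_of_not_dvd (show ¬ 2 ∣ k' by omega), add_zero] at hfac
    rw [show j = 6 by omega]; norm_num
  obtain ⟨p, hpc⟩ := CharP.exists F
  obtain ⟨f, hp, hf⟩ := FiniteField.card F p
  have h127 : n = 127 ∨ n = 129 := by
    rcases Nat.even_or_odd ((n - 1) / 2) with hev | hev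
    · obtain ⟨a, ha⟩ := CfsgLib.Classical.PSL2Spectrum.exists_order_sub_one (F := F)
      have hmod : ((n + 1) / 2) % 2 = 1 := by
        obtain ⟨c, hc⟩ := hev; omega
      have h := hpow ((n - 1) / 2) ((n + 1) / 2) ?_ (by omega) hmod
        ⟨_, CfsgLib.Classical.PSL2Spectrum.orderOf_π_half ho (show orderOf a = 2 * ((n - 1) / 2) by omega)⟩
      · omega
      · calc (n - 1) * (n + 1) = (2 * ((n - 1) / 2)) * (2 * ((n + 1) / 2)) := by
              congr 1 <;> omega
          _ = _ := by ring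
    · obtain ⟨a, ha⟩ := CfsgLib.Classical.PSL2Spectrum.exists_order_add_one (F := F)
      have hmod : ((n - 1) / 2) % 2 = 1 := Nat.odd_iff.1 hev
      have h := hpow ((n + 1) / 2) ((n - 1) / 2) ?_ (by omega) hmod
        ⟨_, CfsgLib.Classical.PSL2Spectrum.orderOf_π_half ho (show orderOf a = 2 * ((n + 1) / 2) by omega)⟩
      · omega
      · calc (n - 1) * (n + 1) = (2 * ((n - 1) / 2)) * (2 * ((n + 1) / 2)) := by
              congr 1 <;> omega
          _ = _ := by ring
  refine h127.resolve_right fun h => ?_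
  rw [← hn, h] at hf
  have hd : p ∣ 3 * 43 := by
    rw [show 3 * 43 = 129 by norm_num, hf]; exact dvd_pow_self p f.ne_zero
  rcases hp.dvd_mul.1 hd with h1 | h1
  · rw [(Nat.prime_dvd_prime_iff_eq hp Nat.prime_three).1 h1] at hf
    rcases Nat.lt_or_ge (f : ℕ) 5 with h5 | h5
    · have := Nat.pow_le_pow_right (show 0 < 3 by norm_num) (show (f : ℕ) ≤ 4 by omega)
      omega
    · have := Nat.pow_le_pow_right (show 0 < 3 by norm_num) h5
      omega
  · rw [(Nat.prime_dvd_prime_iff_eq hp (by norm_num)).1 h1] at hf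
    rcases Nat.lt_or_ge (f : ℕ) 2 with h5 | h5
    · have := Nat.pow_le_pow_right (show 0 < 43 by norm_num) (show (f : ℕ) ≤ 1 by omega)
      omega
    · have := Nat.pow_le_pow_right (show 0 < 43 by norm_num) h5
      omega

theorem exists_psl : ∃ (F : Type) (_ : Field F) (_ : Fintype F), Fintype.card F = 127 ∧
    Nonempty (G ≃* Matrix.ProjectiveSpecialLinearGroup (Fin 2) F) := by
  rcases CfsgLib.PGroup.Miller.exists_normal_four_or_maximal C.card C.not_cyclic with hc | ⟨U, h1, h2, h3⟩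
  · have h4 := CfsgLib.PGroup.index_commutator_of_maximal_two (by norm_num) C.card hc
    obtain ⟨r, e, a, b, ht, F⟩ := CfsgLib.PGroup.exists_frame_two (by norm_num) C.card h4
    rcases CfsgLib.Invol.cases_of_std ht F with h | h | h
    · exact C.psl_of_dihedral h
    · exact (C.not_quaternion h).elim
    · exact (C.not_quasiDihedral h).elim
  · exact (C.no_normal_four h1 h2 h3).elim

end Ctx

end CfsgLib.Invol.LengthEight
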