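import Cfsg.Agent.Lib.Invol.LengthEight.Base
import Cfsg.Agent.Lib.Fusion.AlperinGoldschmidt
import Cfsg.Agent.Lib.Fusion.Transfer

/-!
# No normal four subgroup with an element outside the center
-/

set_option autoImplicit false

namespace CfsgLib.Invol.LengthEight

open Subgroup CfsgLib.Fusion
open scoped commutatorElement

universe u

variable {G : Type u} [Group G] [Finite G]

theorem double {X Y : Subgroup G} (h : X ≤ Y) {y : G} (hy : y ∈ Y) (hyX : y ∉ X) :
    2 * Nat.card X ≤ Nat.card Y := by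
  have h1 := X.subgroupOf Y |>.card_mul_index
  rw [Nat.card_congr (subgroupOfEquivOfLe h).toEquiv] at h1
  have h2 : (X.subgroupOf Y).index ≠ 1 := fun e => hyX (mem_subgroupOf.1 (index_eq_one.1 e ▸ mem_top (⟨y, hy⟩ : Y)))
  have h3 : 0 < (X.subgroupOf Y).index := Nat.pos_of_ne_zero index_ne_zero_of_finite
  rw [← h1, Nat.mul_comm 2]
  exact Nat.mul_le_mul_left _ (by omega)

theorem mem_normalizer_of_conj_mem {H : Subgroup G} {g : G} (h : ∀ a ∈ H, g * a * g⁻¹ ∈ H) :
    g ∈ normalizer (H : Set G) :=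
  conjBy_eq_iff.1 (conjBy_eq_of_le (conjBy_le_iff.2 h))

namespace Ctx

variable {S : Sylow 2 G} (C : Ctx S)
include C

theorem commutator_top : commutator G = ⊤ := by
  haveI := C.simple
  rcases (inferInstance : (commutator G).Normal).eq_bot_or_eq_top with h | h
  · refine absurd (isMulCommutative_iff.2 fun a b => ?_) C.noncomm
    exact commutatorElement_eq_one_iff_mul_comm.1
      (mem_bot.1 (h ▸ commutator_mem_commutator (mem_top a) (mem_top b)))
  · exact h

/-- Some normalizer of a member of the conjugation family moves elements across a proper subgroup. -/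
theorem exists_moving {R : Subgroup G} (hR : ¬ (S : Subgroup G) ≤ R) :
    ∃ E : Subgroup G, Goldschmidt.Good S E ∧ ∃ n ∈ normalizer (E : Set G), ∃ e ∈ E,
      e⁻¹ * (n⁻¹ * e * n) ∉ R := by
  haveI : Fact (Nat.Prime 2) := ⟨Nat.prime_two⟩
  by_contra hall
  push Not at hall
  have key : ∀ {D : Subgroup G} {g : G}, Goldschmidt.GChain S D g → ∀ a ∈ D, a⁻¹ * (g⁻¹ * a * g) ∈ R := by
    intro D g h
    induction h with
    | nil D => intro a _; simp
    | @cons D g E x hE hx hD _ ih =>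
      intro a ha
      have h1 := mul_mem (hall E hE x hx a (hD ha))
        (ih (x⁻¹ * a * x) (by simpa using conj_mem_conjBy (g := x⁻¹) ha))
      rwa [show a⁻¹ * (x⁻¹ * a * x) * ((x⁻¹ * a * x)⁻¹ * (g⁻¹ * (x⁻¹ * a * x) * g)) =
        a⁻¹ * ((x * g)⁻¹ * a * (x * g)) by group] at h1
  have hf : (S : Subgroup G).focalSubgroup = S := by
    rw [← commutator_inf_eq_focal (coprime_card_focalQuotient S), C.commutator_top, top_inf_eq]
  refine hR (hf.ge.trans ?_)
  rw [focalSubgroup_def, closure_le]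
  rintro _ ⟨hxu, x, hx, u, rfl⟩
  have hc' : u * x⁻¹ * u⁻¹ ∈ (S : Subgroup G) := by
    have h4 := mul_mem (inv_mem hx) hxu
    rwa [commutatorElement_def, show x⁻¹ * (x * u * x⁻¹ * u⁻¹) = u * x⁻¹ * u⁻¹ by group] at h4
  obtain ⟨D, c, h, hAD, -, hc, hch, hg⟩ := Goldschmidt.exists_gchain S {x⁻¹} u⁻¹
    (Set.singleton_subset_iff.2 (inv_mem hx)) (by rintro _ ⟨a, rfl, rfl⟩; simp only [inv_inv]; exact hc')
  have h1 := key hch x⁻¹ (hAD rfl)
  have h2 : c⁻¹ * x⁻¹ * c = x⁻¹ := by
    rw [mul_assoc, mem_centralizer_singleton_iff.1 hc |>.symm, inv_mul_cancel_left]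
  have hu : u = h⁻¹ * c⁻¹ := by rw [← mul_inv_rev, ← hg, inv_inv]
  rw [SetLike.mem_coe, show ⁅x, u⁆ = (x⁻¹)⁻¹ * (h⁻¹ * x⁻¹ * h) by
    rw [commutatorElement_def, hu]
    calc x * (h⁻¹ * c⁻¹) * x⁻¹ * (h⁻¹ * c⁻¹)⁻¹ = x * (h⁻¹ * (c⁻¹ * x⁻¹ * c) * h) := by group
      _ = _ := by rw [h2, inv_inv]]
  exact h1

omit C in
/-- `C(E) ≤ E` and `E = O₂(N(E))` when the centralizer of an element of `Z(E)` is a 2-group. -/
theorem good_facts {E : Subgroup G} (hE : Goldschmidt.Good S E) {z : G} (hzS : z ∈ (S : Subgroup G))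
    (hcS : centralizer ({z} : Set G) = (S : Subgroup G)) :
    z ∈ E ∧
      (Cfsg.pCore 2 ↥(normalizer (E : Set G))).map (normalizer (E : Set G)).subtype ≤ E := by
  haveI : Fact (Nat.Prime 2) := ⟨Nat.prime_two⟩
  obtain ⟨hES, hCE, ⟨-, -, -, hdis, hsup⟩, -⟩ := hE
  have hzE : z ∈ centralizer (E : Set G) := mem_centralizer_iff.2 fun e he => by
    have := hcS.ge (hES he)
    exact mem_centralizer_singleton_iff.1 this
  set K := Goldschmidt.core' 2 E with hK
  have hKodd : ∀ a ∈ K, Odd (orderOf a) := by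
    rintro _ ⟨a, ha, rfl⟩
    have h1 : orderOf a ∣ Nat.card (Cfsg.pPrimeCore 2 ↥(normalizer (E : Set G))) :=
      orderOf_dvd_natCard _ ha
    have h2 := Nat.Coprime.coprime_dvd_left h1 (CfsgLib.Coprime.pPrimeCore_coprime Nat.prime_two)
    rw [orderOf_injective _ (subtype_injective _)]
    exact Nat.coprime_two_right.1 h2
  have hmem : z ∈ K ⊔ E := hsup.ge (hCE hzE)
  have hKC : K ≤ centralizer (E : Set G) := Goldschmidt.core'_le_centralizer (S.2.to_le hES)
  rw [← SetLike.mem_coe, coe_mul_of_left_le_normalizer_right K E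
    (hKC.trans (centralizer_le_normalizer _)), Set.mem_mul] at hmem
  obtain ⟨a, ha, b, hb, hab⟩ := hmem
  have haS : a ∈ (S : Subgroup G) := by
    rw [show a = z * b⁻¹ by rw [← hab, mul_inv_cancel_right]]
    exact mul_mem hzS (inv_mem (hES hb))
  have ha1 : a = 1 := odd_eq_one sylow_two haS (hKodd a ha)
  rw [ha1, one_mul] at hab
  have hz : z ∈ E := hab ▸ hb
  refine ⟨hz, ?_⟩
  have hKS : K ≤ (S : Subgroup G) := fun k hk => hcS ▸ mem_centralizer_singleton_iff.2
    ((mem_centralizer_iff.1 (hKC hk)) z hz).symm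
  have hKbot : K = ⊥ := (eq_bot_iff_forall _).2 fun k hk => odd_eq_one sylow_two (hKS hk) (hKodd k hk)
  rw [hKbot, bot_sup_eq] at hsup
  haveI := CfsgLib.Coprime.pCore_normal' (G := ↥(normalizer (E : Set G))) 2
  refine (map_mono (Goldschmidt.le_pPrimePCore (CfsgLib.Coprime.pCore_isPGroup 2))).trans ?_
  exact hsup.ge

/-- The relations that an inverted element of odd order produces lead to a contradiction. -/
theorem inverted_false {z q x : G} (hz1 : z ≠ 1) (hz2 : z * z = 1) (hzS : z ∈ (S : Subgroup G))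
    (hz : ∀ s ∈ (S : Subgroup G), s * z = z * s) (hqS : q ∈ (S : Subgroup G)) (hq2 : q * q = 1)
    (hq : ∀ s ∈ (S : Subgroup G), s * q * s⁻¹ = q ∨ s * q * s⁻¹ = q * z)
    (hnc : ¬ ∀ s ∈ (S : Subgroup G), s * q = q * s) (hx1 : x ≠ 1) (hxo : Odd (orderOf x))
    (hqx : q * x * q⁻¹ = x⁻¹) (hw : x * z * x⁻¹ ∈ (S : Subgroup G)) (hw' : x⁻¹ * z * x ∈ (S : Subgroup G)) :
    False := by
  classical
  haveI : Fact (Nat.Prime 2) := ⟨Nat.prime_two⟩
  have hxS : x ∉ (S : Subgroup G) := fun h => hx1 (odd_eq_one sylow_two h hxo)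
  have hqi : q⁻¹ = q := inv_eq_of_mul_eq_one_right hq2
  have hzi : z⁻¹ = z := inv_eq_of_mul_eq_one_right hz2
  set w := x * z * x⁻¹ with hwd
  have hw2 : w * w = 1 := by
    calc w * w = x * (z * z) * x⁻¹ := by rw [hwd]; group
      _ = 1 := by rw [hz2]; group
  have hwi : w⁻¹ = w := inv_eq_of_mul_eq_one_right hw2
  have hwz : w * z = z * w := hz w hw
  -- conjugation by `q` moves elements of `S` by `z` only
  have hqt : ∀ t ∈ (S : Subgroup G), q * t * q⁻¹ = t ∨ q * t * q⁻¹ = t * z := by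
    intro t ht
    rcases hq t⁻¹ (inv_mem ht) with h | h <;> rw [inv_inv] at h
    · left
      calc q * t * q⁻¹ = t * (t⁻¹ * q * t) * q⁻¹ := by group
        _ = t := by rw [h]; group
    · right
      calc q * t * q⁻¹ = t * (t⁻¹ * q * t) * q⁻¹ := by group
        _ = t * (q * z * q⁻¹) := by rw [h]; group
        _ = t * z := by rw [hz q hqS, mul_inv_cancel_right]
  have hxq : x * q * x⁻¹ = x * x * q := by
    calc x * q * x⁻¹ = x * (q * x⁻¹ * q⁻¹) * q := by group
      _ = x * x * q := by rw [← conj_inv, hqx, inv_inv]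
  -- the square of `x` on elements moved into `S` by `x⁻¹`
  have hx2 : ∀ t : G, x⁻¹ * t * x ∈ (S : Subgroup G) →
      x * x * (q * t * q⁻¹) * (x * x)⁻¹ = t ∨ x * x * (q * t * q⁻¹) * (x * x)⁻¹ = t * w := by
    intro t ht
    have e : x * x * (q * t * q⁻¹) * (x * x)⁻¹ = x * (q * (x⁻¹ * t * x) * q⁻¹) * x⁻¹ := by
      calc x * x * (q * t * q⁻¹) * (x * x)⁻¹ = (x * x * q) * t * (x * x * q)⁻¹ := by group
        _ = (x * q * x⁻¹) * t * (x * q * x⁻¹)⁻¹ := by rw [hxq]
        _ = _ := by group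
    rw [e]
    rcases hqt _ ht with h | h <;> rw [h]
    · left; group
    · right; rw [hwd]; group
  have hqz : q * z * q⁻¹ = z := by rw [hz q hqS, mul_inv_cancel_right]
  have hxxz : x * x * z * (x * x)⁻¹ = z * w := by
    rcases hx2 z hw' with h | h <;> rw [hqz] at h
    · exfalso
      have h1 := (C.comm_iff hz1 hz).1 (mul_inv_eq_iff_eq_mul.1 h)
      have h2 : Odd (orderOf (x * x)) := by
        rw [← pow_two, orderOf_pow' x two_ne_zero, Nat.Coprime.gcd_eq_one (Nat.coprime_two_right.2 hxo)]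
        simpa using hxo
      exact hx1 (eq_one_of_odd_of_mul_self hxo (odd_eq_one sylow_two h1 h2))
    · exact h
  have hxw : x * w * x⁻¹ = z * w := by
    rw [hwd, ← hxxz]; group
  have hxzw : x * (z * w) * x⁻¹ = z := by
    calc x * (z * w) * x⁻¹ = x * z * x⁻¹ * (x * w * x⁻¹) := by group
      _ = w * (z * w) := by rw [hxw, ← hwd]
      _ = z * (w * w) := by rw [← mul_assoc, hwz, mul_assoc]
      _ = z := by rw [hw2, mul_one]
  have hx3 : x * x * x = 1 := by
    have h : x * x * x * z * (x * x * x)⁻¹ = z := by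
      calc x * x * x * z * (x * x * x)⁻¹ = x * (x * x * z * (x * x)⁻¹) * x⁻¹ := by group
        _ = z := by rw [hxxz, hxzw]
    refine odd_eq_one sylow_two ((C.comm_iff hz1 hz).1 (mul_inv_eq_iff_eq_mul.1 h)) ?_
    obtain ⟨k, hk⟩ := hxo
    refine Odd.of_dvd_nat ⟨k, hk⟩ (orderOf_dvd_of_pow_eq_one ?_)
    rw [show x * x * x = x ^ 3 by rw [pow_succ, pow_two], ← pow_mul, mul_comm, pow_mul, pow_orderOf_eq_one,
      one_pow]
  have hqw : q * w * q⁻¹ = z * w := by
    calc q * w * q⁻¹ = (q * x * q⁻¹) * (q * z * q⁻¹) * (q * x * q⁻¹)⁻¹ := by rw [hwd]; group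
      _ = x⁻¹ * z * x := by rw [hqx, hqz, inv_inv]
      _ = x⁻¹ * z * (x⁻¹)⁻¹ := by rw [inv_inv]
      _ = z * w := by rw [inv_eq_of_mul_eq_one_left hx3]; exact hxxz
  have hwne : w ≠ z := fun e => hxS ((C.comm_iff hz1 hz).1 (mul_inv_eq_iff_eq_mul.1 e))
  have hw1 : w ≠ 1 := fun e => hz1 (conj_eq_one_iff.1 e)
  have hzw1 : z * w ≠ 1 := fun e => hwne (by rw [← hwi, ← eq_inv_of_mul_eq_one_left e])
  -- the four group and its centralizer
  let IsV : G → Prop := fun v => v = 1 ∨ v = z ∨ v = w ∨ v = z * w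
  have hzzw : z * (z * w) = w := by rw [← mul_assoc, hz2, one_mul]
  have hzwz : z * w * z = w := by rw [mul_assoc, hwz, hzzw]
  have hwzw : w * (z * w) = z := by rw [← mul_assoc, hwz, mul_assoc, hw2, mul_one]
  have hzww : z * w * w = z := by rw [mul_assoc, hw2, mul_one]
  have hzw2 : z * w * (z * w) = 1 := by rw [mul_assoc, hwzw, hz2]
  have hVmul : ∀ a b : G, IsV a → IsV b → IsV (a * b) := by
    rintro a b (ha | ha | ha | ha) (hb | hb | hb | hb) <;> rw [ha, hb] <;>
      simp only [one_mul, mul_one, hz2, hw2, hwz, hzzw, hzwz, hwzw, hzww, hzw2, IsV] <;> simp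
  have hVx : ∀ v : G, IsV v → IsV (x * v * x⁻¹) := by
    rintro v (e | e | e | e) <;> rw [e]
    · simp [IsV]
    · exact Or.inr (Or.inr (Or.inl rfl))
    · exact Or.inr (Or.inr (Or.inr hxw))
    · exact Or.inr (Or.inl hxzw)
  set T := centralizer ({z} : Set G) ⊓ centralizer ({w} : Set G) with hTd
  have hmemT : ∀ t, t ∈ T ↔ t * z = z * t ∧ t * w = w * t := fun t => by
    rw [hTd, mem_inf, mem_centralizer_singleton_iff, mem_centralizer_singleton_iff]
  have hTS : T ≤ (S : Subgroup G) := fun t ht => (C.comm_iff hz1 hz).1 ((hmemT t).1 ht).1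
  have hVT : ∀ v, IsV v → v ∈ T := by
    rintro v (e | e | e | e) <;> rw [e]
    · exact one_mem _
    · exact (hmemT z).2 ⟨rfl, hwz.symm⟩
    · exact (hmemT w).2 ⟨hwz, rfl⟩
    · exact mul_mem ((hmemT z).2 ⟨rfl, hwz.symm⟩) ((hmemT w).2 ⟨hwz, rfl⟩)
  have hVc : ∀ v, IsV v → ∀ t ∈ T, t * v = v * t := by
    intro v hv t ht
    obtain ⟨h1, h2⟩ := (hmemT t).1 ht
    rcases hv with e | e | e | e <;> rw [e]
    · simp
    · exact h1
    · exact h2
    · exact (show Commute t z from h1).mul_right h2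
  have hqT : q ∉ T := fun h => hz1 (by
    have h1 := ((hmemT q).1 h).2
    rw [mul_inv_eq_iff_eq_mul.1 hqw] at h1
    exact mul_right_cancel (b := w) (by rw [one_mul]; exact mul_right_cancel (b := q) h1))
  have hxT : ∀ t ∈ T, x * t * x⁻¹ ∈ T := by
    intro t ht
    obtain ⟨h1, h2⟩ := (hmemT t).1 ht
    have c1 : Commute (x * t * x⁻¹) w := by
      rw [hwd]; exact (Commute.conj_iff x).2 h1
    have c2 : Commute (x * t * x⁻¹) (z * w) := by
      rw [← hxw]; exact (Commute.conj_iff x).2 h2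
    refine (hmemT _).2 ⟨?_, c1.eq⟩
    have := c2.mul_right c1
    rwa [hzww] at this
  have hxN : x ∈ normalizer (T : Set G) := mem_normalizer_of_conj_mem hxT
  have hxT' : ∀ t ∈ T, x⁻¹ * t * x ∈ T := fun t ht => (mem_normalizer_iff''.1 hxN t).1 ht
  have hx2' : ∀ t ∈ T, ∃ v, IsV v ∧ x * x * t * (x * x)⁻¹ = t * v := by
    intro t ht
    have h := hx2 t (hTS (hxT' t ht))
    rcases hqt t (hTS ht) with e | e <;> rw [e] at h
    · rcases h with h | h
      · exact ⟨1, Or.inl rfl, by rw [h, mul_one]⟩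
      · exact ⟨w, Or.inr (Or.inr (Or.inl rfl)), h⟩
    · have e' : x * x * t * (x * x)⁻¹ = x * x * (t * z) * (x * x)⁻¹ * (x * x * z * (x * x)⁻¹)⁻¹ := by group
      rw [hxxz, inv_eq_of_mul_eq_one_right hzw2] at e'
      rcases h with h | h <;> rw [h] at e'
      · exact ⟨z * w, Or.inr (Or.inr (Or.inr rfl)), e'⟩
      · exact ⟨z, Or.inr (Or.inl rfl), by rw [e', mul_assoc, hwzw]⟩
  have hxt : ∀ t ∈ T, ∃ v, IsV v ∧ x * t * x⁻¹ = t * v := by
    intro t ht
    obtain ⟨v, hv, e⟩ := hx2' t ht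
    obtain ⟨v', hv', e'⟩ := hx2' (t * v) (mul_mem ht (hVT v hv))
    refine ⟨v * v', hVmul _ _ hv hv', ?_⟩
    calc x * t * x⁻¹ = (x * x * x) * x * t * ((x * x * x) * x)⁻¹ := by rw [hx3, one_mul]
      _ = x * x * (x * x * t * (x * x)⁻¹) * (x * x)⁻¹ := by group
      _ = t * (v * v') := by rw [e, e', mul_assoc]
  have hdec : ∀ t ∈ T, ∃ d ∈ T, x * d * x⁻¹ = d ∧ ∃ v, IsV v ∧ t = d * v := by
    intro t ht
    obtain ⟨v, hv, e⟩ := hxt t ht
    obtain ⟨v₀, hv₀, h0, e₀⟩ : ∃ v₀, IsV v₀ ∧ v₀ * v₀ = 1 ∧ v * (x * v₀ * x⁻¹) = v₀ := by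
      rcases hv with e' | e' | e' | e' <;> rw [e']
      · exact ⟨1, Or.inl rfl, one_mul 1, by simp⟩
      · exact ⟨w, Or.inr (Or.inr (Or.inl rfl)), hw2, by rw [hxw, hzzw]⟩
      · exact ⟨z * w, Or.inr (Or.inr (Or.inr rfl)), hzw2, by rw [hxzw, hwz]⟩
      · exact ⟨z, Or.inr (Or.inl rfl), hz2, by rw [← hwd, hzww]⟩
    refine ⟨t * v₀, mul_mem ht (hVT v₀ hv₀), ?_, v₀, hv₀, by rw [mul_assoc, h0, mul_one]⟩
    calc x * (t * v₀) * x⁻¹ = x * t * x⁻¹ * (x * v₀ * x⁻¹) := by group
      _ = t * v₀ := by rw [e, mul_assoc, e₀]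
  have hdq : ∀ d ∈ T, x * d * x⁻¹ = d → q * d * q⁻¹ = d := by
    intro d hd hfix
    rcases hqt d (hTS hd) with h | h
    · exact h
    exfalso
    have h1 : x * (q * d * q⁻¹) * x⁻¹ = q * d * q⁻¹ := by
      have e : x⁻¹ * d * x = d := by
        calc x⁻¹ * d * x = x⁻¹ * (x * d * x⁻¹) * x := by rw [hfix]
          _ = d := by group
      calc x * (q * d * q⁻¹) * x⁻¹ = q * ((q⁻¹ * x * q) * d * (q⁻¹ * x * q)⁻¹) * q⁻¹ := by group
        _ = q * (x⁻¹ * d * x) * q⁻¹ := by
          rw [hqi, show q * x * q = q * x * q⁻¹ by rw [hqi], hqx, inv_inv]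
        _ = q * d * q⁻¹ := by rw [e]
    rw [h, show x * (d * z) * x⁻¹ = (x * d * x⁻¹) * w by rw [hwd]; group, hfix] at h1
    exact hwne (mul_left_cancel h1)
  have hdV : ∀ d, x * d * x⁻¹ = d → IsV d → d = 1 := by
    rintro d hd (e | e | e | e) <;> rw [e] at hd ⊢
    · exact absurd hd hwne
    · exact absurd (mul_right_cancel (b := w) (by rw [one_mul, ← hxw, hd])) hz1
    · rw [hxzw] at hd
      exact absurd (mul_left_cancel (a := z) (by rw [mul_one, ← hd])) hw1
  -- `q` and the subgroup `P₁`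
  have hqTn : ∀ t ∈ T, q * t * q⁻¹ ∈ T := by
    intro t ht
    obtain ⟨h1, h2⟩ := (hmemT t).1 ht
    have c1 : Commute (q * t * q⁻¹) z := by
      rw [← hqz]; exact (Commute.conj_iff q).2 h1
    have c2 : Commute (q * t * q⁻¹) (z * w) := by
      rw [← hqw]; exact (Commute.conj_iff q).2 h2
    refine (hmemT _).2 ⟨c1.eq, ?_⟩
    have := c1.mul_right c2
    rwa [hzzw] at this
  let P₁ : Subgroup G :=
    { carrier := {s | s ∈ T ∨ q * s ∈ T}
      one_mem' := Or.inl (one_mem _)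
      mul_mem' := fun {a b} ha hb => by
        rcases ha with ha | ha <;> rcases hb with hb | hb
        · exact Or.inl (mul_mem ha hb)
        · refine Or.inr ?_
          rw [show q * (a * b) = q * a * q⁻¹ * (q * b) by group]
          exact mul_mem (hqTn a ha) hb
        · refine Or.inr ?_
          rw [← mul_assoc]
          exact mul_mem ha hb
        · refine Or.inl ?_
          rw [show a * b = q * (q * a) * q⁻¹ * (q * b) by
            rw [hqi, show q * (q * a) = a by rw [← mul_assoc, hq2, one_mul], mul_assoc a q, ← mul_assoc q q, hq2,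
              one_mul]]
          exact mul_mem (hqTn _ ha) hb
      inv_mem' := fun {a} ha => by
        rcases ha with ha | ha
        · exact Or.inl (inv_mem ha)
        · refine Or.inr ?_
          rw [show q * a⁻¹ = q * (q * a)⁻¹ * q⁻¹ * (q * q) by group, hq2, mul_one]
          exact hqTn _ (inv_mem ha) }
  have hmemP : ∀ s, s ∈ P₁ ↔ s ∈ T ∨ q * s ∈ T := fun s => Iff.rfl
  have hTP : T ≤ P₁ := fun t ht => Or.inl ht
  have hqP : q ∈ P₁ := Or.inr (by rw [hq2]; exact one_mem _)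
  have hPS : P₁ ≤ (S : Subgroup G) := by
    rintro s (h | h)
    · exact hTS h
    · rw [show s = q * (q * s) by rw [← mul_assoc, hq2, one_mul]]
      exact mul_mem hqS (hTS h)
  have hsT : ∀ s ∈ (S : Subgroup G), s * w * s⁻¹ = w → s ∈ T := fun s hs h =>
    (hmemT s).2 ⟨hz s hs, mul_inv_eq_iff_eq_mul.1 h⟩
  have hP1 : ∀ s ∈ P₁, s * w * s⁻¹ = w ∨ s * w * s⁻¹ = z * w := by
    rintro s (h | h)
    · exact Or.inl (by rw [mul_inv_eq_iff_eq_mul]; exact ((hmemT s).1 h).2)
    · right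
      rw [show s = q * (q * s) by rw [← mul_assoc, hq2, one_mul]]
      calc q * (q * s) * w * (q * (q * s))⁻¹ = q * ((q * s) * w * (q * s)⁻¹) * q⁻¹ := by group
        _ = z * w := by rw [mul_inv_eq_iff_eq_mul.2 ((hmemT _).1 h).2, hqw]
  have hP1' : ∀ s ∈ (S : Subgroup G), s * w * s⁻¹ = z * w → s ∈ P₁ := fun s hs h =>
    Or.inr (hsT _ (mul_mem hqS hs) (by
      calc q * s * w * (q * s)⁻¹ = q * (s * w * s⁻¹) * q⁻¹ := by group
        _ = w := by
          rw [h, show q * (z * w) * q⁻¹ = (q * z * q⁻¹) * (q * w * q⁻¹) by group, hqz, hqw, hzzw]))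
  have hPcard : Nat.card P₁ = 2 * Nat.card T := index_two_of hTP hqP hqT fun a ha haT => by
    rcases (hmemP a).1 ha with h | h
    · exact absurd h haT
    · rw [show a * q = q * (q * a) * q⁻¹ by rw [← mul_assoc, hq2, one_mul, hqi]]
      exact hqTn _ h
  -- the local subgroup
  have hTne : T ≠ ⊥ := fun e => hz1 (mem_bot.1 (e ▸ hVT z (Or.inr (Or.inl rfl))))
  have hTtop : T ≠ ⊤ := fun e => hxS (hTS (e ▸ mem_top x))
  have hN : normalizer (T : Set G) ≠ ⊤ := C.normalizer_ne_top hTne hTtop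
  set N := normalizer (T : Set G) with hNd
  have hTN : T ≤ N := le_normalizer
  have hqN : q ∈ N := mem_normalizer_of_conj_mem hqTn
  have hPN : P₁ ≤ N := by
    rintro s (h | h)
    · exact hTN h
    · rw [show s = q * (q * s) by rw [← mul_assoc, hq2, one_mul]]
      exact mul_mem hqN (hTN h)
  have hcore : IsCore N T := by
    refine ⟨hTN, sylow_two.to_le hTS, normal_in_normalizer, fun O hO hO2 hTO o ho => mem_subgroupOf.2 ?_⟩
    obtain ⟨g, hg⟩ := exists_conj_le (S := S) (hO2.map N.subtype)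
    have hcO : ∀ a ∈ O.map N.subtype, a * (g * z * g⁻¹) = g * z * g⁻¹ * a := fun a ha => by
      obtain ⟨b, hb, rfl⟩ := hg ha
      refine (C.comm_conj_iff hz1 hz).2 ?_
      show g⁻¹ * (g * b * g⁻¹) * g ∈ (S : Subgroup G)
      rw [show g⁻¹ * (g * b * g⁻¹) * g = b by group]
      exact hb
    have hmemO : ∀ t ∈ T, t ∈ O.map N.subtype := fun t ht => ⟨⟨t, hTN ht⟩, hTO (mem_subgroupOf.2 ht), rfl⟩
    have hzT : g * z * g⁻¹ ∈ T := (hmemT _).2
      ⟨(hcO z (hmemO z (hVT z (Or.inr (Or.inl rfl))))).symm, (hcO w (hmemO w (hVT w (Or.inr (Or.inr (Or.inl rfl)))))).symm⟩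
    obtain ⟨v, hv, e⟩ := hxt _ hzT
    have hv1 : v ≠ 1 := fun h => hx1 (C.odd_fix hz1 hz hxo (mul_inv_eq_iff_eq_mul.1 (by rw [e, h, mul_one])))
    have hxO : ∀ a ∈ O.map N.subtype, x⁻¹ * a * x ∈ O.map N.subtype := by
      rintro _ ⟨b, hb, rfl⟩
      exact ⟨(⟨x, hxN⟩ : N)⁻¹ * b * ((⟨x, hxN⟩ : N)⁻¹)⁻¹, hO.conj_mem b hb _, by simp⟩
    -- everything in `O` centralizes `v` and its conjugate
    have hcv : ∀ a ∈ O.map N.subtype, Commute a v := fun a ha => by
      have h1 : Commute (x⁻¹ * a * x) (g * z * g⁻¹) := hcO _ (hxO a ha)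
      have h2 := (Commute.conj_iff x).2 h1
      rw [e, show x * (x⁻¹ * a * x) * x⁻¹ = a by group] at h2
      have h3 := (show Commute a (g * z * g⁻¹) from hcO a ha).inv_right.mul_right h2
      rwa [inv_mul_cancel_left] at h3
    have hcv' : ∀ a ∈ O.map N.subtype, Commute a (x * v * x⁻¹) := fun a ha => by
      have h1 := (Commute.conj_iff x).2 (hcv _ (hxO a ha))
      rwa [show x * (x⁻¹ * a * x) * x⁻¹ = a by group] at h1
    have ha : (o : G) ∈ O.map N.subtype := mem_map_of_mem N.subtype ho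
    have c1 := hcv _ ha
    have c2 := hcv' _ ha
    rcases hv with hv | hv | hv | hv
    · exact absurd hv hv1
    · rw [hv] at c1 c2
      exact (hmemT _).2 ⟨c1.eq, c2.eq⟩
    · rw [hv] at c1 c2
      rw [hxw] at c2
      refine (hmemT _).2 ⟨?_, c1.eq⟩
      have := c2.mul_right c1
      rwa [hzww] at this
    · rw [hv] at c1 c2
      rw [hxzw] at c2
      refine (hmemT _).2 ⟨c2.eq, ?_⟩
      have := c2.mul_right c1
      rwa [hzzw] at this
  set P := (S : Subgroup G) ⊓ N with hPd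
  have hP₁P : P₁ ≤ P := le_inf hPS hPN
  have hP2 : IsPGroup 2 P := sylow_two.to_le inf_le_left
  have hxP : x ∉ P := fun h => hxS h.1
  have hPltN : P < N := lt_of_le_of_ne inf_le_right fun e => hxP (e ▸ hxN)
  have hP64 : Nat.card P ≤ 64 := C.two_le hP2 hPltN hN
  have hT2 : IsPGroup 2 T := sylow_two.to_le hTS
  have hPeq : P = P₁ := by
    by_contra hne
    obtain ⟨s, hsP, hs⟩ := SetLike.exists_of_lt (lt_of_le_of_ne hP₁P (Ne.symm hne))
    have h4 := double hP₁P hsP hs
    have hs' : s * w * s⁻¹ ∈ T := (mem_normalizer_iff.1 hsP.2 w).1 (hVT w (Or.inr (Or.inr (Or.inl rfl))))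
    obtain ⟨a, ha⟩ := IsPGroup.iff_card.1 hT2
    obtain ⟨b, hb⟩ := IsPGroup.iff_card.1 hP2
    have h32 : Nat.card T ≤ 16 := by omega
    have hV4 : ({1, z, w, z * w} : Set G).ncard = 4 := by
      rw [Set.ncard_insert_of_notMem, Set.ncard_insert_of_notMem, Set.ncard_pair]
      · exact fun e => hz1 (mul_right_cancel (b := w) (by rw [one_mul, ← e]))
      · simp only [Set.mem_insert_iff, Set.mem_singleton_iff, not_or]
        exact ⟨hwne.symm, fun e => hw1 (mul_left_cancel (a := z) (by rw [mul_one, ← e]))⟩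
      · simp only [Set.mem_insert_iff, Set.mem_singleton_iff, not_or]
        exact ⟨hz1.symm, hw1.symm, hzw1.symm⟩
    have hVsub : ({1, z, w, z * w} : Set G) ⊆ (T : Set G) := by
      rintro a (e | e | e | e) <;> rw [e]
      exacts [hVT _ (Or.inl rfl), hVT _ (Or.inr (Or.inl rfl)), hVT _ (Or.inr (Or.inr (Or.inl rfl))),
        hVT _ (Or.inr (Or.inr (Or.inr rfl)))]
    have hT4 : 4 ≤ Nat.card T := by
      rw [← hV4, ← SetLike.coe_sort_coe, Nat.card_coe_set_eq]
      exact Set.ncard_le_ncard hVsub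
    obtain ⟨d, hd, hdfix, hd1⟩ : ∃ d ∈ T, x * d * x⁻¹ = d ∧ d ≠ 1 := by
      by_contra hall
      push Not at hall
      have hV : ∀ t ∈ T, IsV t := fun t ht => by
        obtain ⟨d, hd, hfix, v, hv, rfl⟩ := hdec t ht
        rw [hall d hd hfix, one_mul]; exact hv
      rcases hV _ hs' with h | h | h | h
      · exact hw1 (conj_eq_one_iff.1 h)
      · have e : s * z * s⁻¹ = z := by rw [hz s hsP.1, mul_inv_cancel_right]
        exact hwne (MulAut.conj s |>.injective (show s * w * s⁻¹ = s * z * s⁻¹ by rw [h, e]))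
      · exact hs (Or.inl (hsT s hsP.1 h))
      · exact hs (hP1' s hsP.1 h)
    have hT8 : 4 < Nat.card T := by
      rcases eq_or_lt_of_le hT4 with h | h
      · exfalso
        have heq := Set.eq_of_subset_of_ncard_le hVsub (by
          rw [hV4, ← Nat.card_coe_set_eq, SetLike.coe_sort_coe, ← h])
        exact hd1 (hdV d hdfix (by simpa [IsV] using heq.ge hd))
      · exact h
    have hxo3 : orderOf x = 3 := orderOf_eq_prime (by rw [pow_succ, pow_two, hx3]) hx1
    have h3N : 3 ∣ Nat.card N := hxo3 ▸ orderOf_dvd_natCard _ hxN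
    have ha34 : a = 3 ∨ a = 4 := by
      have h1 : a ≤ 4 := by
        by_contra h
        have := Nat.pow_le_pow_right (show 0 < 2 by norm_num) (show 5 ≤ a by omega)
        omega
      have h2 : 3 ≤ a := by
        by_contra h
        have := Nat.pow_le_pow_right (show 0 < 2 by norm_num) (show a ≤ 2 by omega)
        omega
      omega
    rcases ha34 with rfl | rfl
    · -- `|T| = 8`: the orbit of `z` has at most six elements
      have hNz : N ⊓ centralizer ({z} : Set G) = P := by rw [C.cent_eq hz1 hz, inf_comm]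
      have horb := card_orbit N z
      rw [hNz] at horb
      have hm : Nat.card {y : G // ∃ h ∈ N, h * z * h⁻¹ = y} ≤ 6 := by
        have hsub : {y : G | ∃ h ∈ N, h * z * h⁻¹ = y} ⊆ (T : Set G) \ {1, d} := by
          rintro y ⟨h, hh, rfl⟩
          refine ⟨(mem_normalizer_iff.1 hh z).1 (hVT z (Or.inr (Or.inl rfl))), ?_⟩
          rintro (e | e)
          · exact hz1 (conj_eq_one_iff.1 e)
          · exact hx1 (C.odd_fix hz1 hz hxo (mul_inv_eq_iff_eq_mul.1 (by
              rw [Set.mem_singleton_iff.1 e]; exact hdfix)))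
        have h1 := Set.ncard_le_ncard hsub
        rw [Set.ncard_sdiff (by
          rintro a (e | e)
          · rw [e]; exact one_mem _
          · rw [Set.mem_singleton_iff.1 e]; exact hd),
          Set.ncard_pair hd1.symm, ← Nat.card_coe_set_eq, ← Nat.card_coe_set_eq (T : Set G), SetLike.coe_sort_coe, ha] at h1
        exact h1.trans (by norm_num)
      generalize hmd : Nat.card {y : G // ∃ h ∈ N, h * z * h⁻¹ = y} = m at horb hm
      have h3m : 3 ∣ m := by
        rw [← horb, hb] at h3N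
        exact (Nat.Coprime.dvd_of_dvd_mul_right (Nat.Coprime.pow_right b (by norm_num)) h3N)
      have h8 : (2 : ℕ) ^ 3 = 8 := by norm_num
      have h32P : 32 ≤ 2 ^ b := by omega
      have hmpos : 0 < m := Nat.pos_of_ne_zero fun e => by
        rw [e, zero_mul] at horb; exact Nat.card_pos.ne horb
      rcases (show m = 3 ∨ m = 6 by omega) with rfl | rfl
      · exact three_index hcore (e := b) (by rw [← horb, hb, mul_comm]) (by rw [ha]; omega)
      · exact three_index hcore (e := b + 1) (by rw [← horb, hb, pow_succ]; ring)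
          (by rw [ha, pow_succ]; omega)
    · -- `|T| = 16`
      have hP64' : Nat.card P = 64 := by omega
      refine four_quot C.short hN hcore (hTP.trans hP₁P) inf_le_right (by rw [ha]; norm_num) hP64' ?_
        (Or.inl h3N)
      obtain ⟨U, hU⟩ := (hP2.of_equiv (subgroupOfEquivOfLe (inf_le_right : P ≤ N)).symm).exists_le_sylow
      have hUm : IsPGroup 2 ((U : Subgroup N).map N.subtype) := U.isPGroup'.map _
      have hUlt : (U : Subgroup N).map N.subtype < N := lt_of_le_of_ne (map_subtype_le _) fun e => by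
        have h2 := odd_eq_one hUm (e.ge hxN) hxo
        exact hx1 h2
      have hle : P.subgroupOf N = (U : Subgroup N) := by
        refine eq_of_le_of_card_ge hU ?_
        rw [Nat.card_congr (subgroupOfEquivOfLe (inf_le_right : P ≤ N)).toEquiv, hP64',
          ← card_map_of_injective N.subtype_injective]
        exact C.two_le hUm hUlt hN
      show ¬ 2 ∣ (P.subgroupOf N).index
      rw [hle]
      exact U.not_dvd_index
  -- growth inside the Sylow subgroup
  have hP1S : P₁ ≠ (S : Subgroup G) := fun e => by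
    have h1 : (S : Subgroup G) < N := e ▸ (hPeq ▸ hPltN)
    exact hN (C.maximal h1)
  obtain ⟨y, hyS, hyP, hyn⟩ := exists_growth sylow_two hPS hP1S
  have hyz : y * z * y⁻¹ = z := by rw [hz y hyS, mul_inv_cancel_right]
  set w' := y * w * y⁻¹ with hw'd
  have hwP : w' ∈ P₁ := (mem_normalizer_iff.1 hyn w).1 (hTP (hVT w (Or.inr (Or.inr (Or.inl rfl)))))
  have hsw' : ∀ s ∈ P₁, s * w' * s⁻¹ = w' ∨ s * w' * s⁻¹ = w' * z := by
    intro s hs
    have e : s * w' * s⁻¹ = y * ((y⁻¹ * s * y) * w * (y⁻¹ * s * y)⁻¹) * y⁻¹ := by rw [hw'd]; group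
    rcases hP1 _ ((mem_normalizer_iff''.1 hyn s).1 hs) with h | h <;> rw [e, h]
    · exact Or.inl rfl
    · right
      rw [← hwz, hw'd]
      calc y * (w * z) * y⁻¹ = y * w * y⁻¹ * (y * z * y⁻¹) := by group
        _ = _ := by rw [hyz]
  -- an element of the fixed part of `T` moved only by `z` is fixed
  have hdc : ∀ d, x * d * x⁻¹ = d → ∀ d₁, x * d₁ * x⁻¹ = d₁ → d₁ * d * d₁⁻¹ = d * z → False := by
    intro d hd d₁ hd₁ h
    have h1 : x * (d * z) * x⁻¹ = d * z := by
      rw [← h, show x * (d₁ * d * d₁⁻¹) * x⁻¹ = (x * d₁ * x⁻¹) * (x * d * x⁻¹) * (x * d₁ * x⁻¹)⁻¹ by group,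
        hd, hd₁]
    rw [show x * (d * z) * x⁻¹ = (x * d * x⁻¹) * w by rw [hwd]; group, hd] at h1
    exact hwne (mul_left_cancel h1)
  have hconjT : ∀ d, x * d * x⁻¹ = d → d ∈ T → ∀ v, IsV v →
      (∀ t ∈ T, x * t * x⁻¹ = t → t * (d * v) * t⁻¹ = d * v ∨ t * (d * v) * t⁻¹ = d * v * z) →
      ∀ t ∈ T, t * d = d * t := by
    intro d hd hdT v hv h t ht
    obtain ⟨d₁, hd₁, hd₁x, v₁, hv₁, rfl⟩ := hdec t ht
    have e : d₁ * (d * v) * d₁⁻¹ = d₁ * d * d₁⁻¹ * v := by
      calc d₁ * (d * v) * d₁⁻¹ = d₁ * d * (v * d₁⁻¹) := by group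
        _ = d₁ * d * (d₁⁻¹ * v) := by rw [hVc v hv _ (inv_mem hd₁)]
        _ = _ := by group
    have h1 : d₁ * d * d₁⁻¹ = d := by
      rcases h d₁ hd₁ hd₁x with h | h <;> rw [e] at h
      · exact mul_right_cancel h
      · refine absurd ?_ (fun h' => hdc d hd d₁ hd₁x h')
        refine mul_right_cancel (b := v) ?_
        rw [h, mul_assoc, mul_assoc, hVc z (Or.inr (Or.inl rfl)) v (hVT v hv)]
    exact ((show Commute d₁ d from mul_inv_eq_iff_eq_mul.1 h1).mul_left (hVc v₁ hv₁ d hdT).symm).eq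
  rcases (hmemP w').1 hwP with hwT | hwT
  · -- then `y` normalizes `T`
    obtain ⟨d, hd, hdx, v, hv, hdv⟩ := hdec w' hwT
    have hcd : ∀ t ∈ T, t * w' = w' * t := by
      intro t ht
      have h := hconjT d hdx hd v hv (fun t ht _ => by rw [← hdv]; exact hsw' t (hTP ht)) t ht
      rw [hdv]
      exact ((show Commute t d from h).mul_right (hVc v hv t ht)).eq
    have hyT : ∀ a ∈ T, y⁻¹ * a * y ∈ T := by
      intro a ha
      refine (hmemT _).2 ⟨hz _ (mul_mem (mul_mem (inv_mem hyS) (hTS ha)) hyS), ?_⟩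
      calc y⁻¹ * a * y * w = y⁻¹ * (a * w') * y := by rw [hw'd]; group
        _ = y⁻¹ * (w' * a) * y := by rw [hcd a ha]
        _ = w * (y⁻¹ * a * y) := by rw [hw'd]; group
    have hyN : y⁻¹ ∈ N := mem_normalizer_of_conj_mem fun a ha => by simpa using hyT a ha
    exact hyP (hPeq.le ⟨hyS, by simpa using inv_mem hyN⟩)
  · -- then the conjugate of `T` lies in the centralizer of `q`
    obtain ⟨d, hd, hdx, v, hv, hdv⟩ := hdec _ hwT
    have hqd : q * d = d * q := mul_inv_eq_iff_eq_mul.1 (hdq d hd hdx)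
    have hw'eq : w' = q * (d * v) := by rw [← hdv, ← mul_assoc, hq2, one_mul]
    have hw'2 : w' * w' = 1 := by
      rw [hw'd, show y * w * y⁻¹ * (y * w * y⁻¹) = y * (w * w) * y⁻¹ by group, hw2]; group
    have hd2 : d * d * (q * v * q⁻¹ * v) = 1 := by
      rw [← hw'2, hw'eq]
      calc d * d * (q * v * q⁻¹ * v) = d * (d * (q * v * q⁻¹)) * v := by group
        _ = d * ((q * v * q⁻¹) * d) * v := by
          rw [(hVc (q * v * q⁻¹) (by
            rcases hv with e | e | e | e <;> rw [e]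
            · exact Or.inl (by group)
            · exact Or.inr (Or.inl hqz)
            · exact Or.inr (Or.inr (Or.inr hqw))
            · exact Or.inr (Or.inr (Or.inl (by
                rw [show q * (z * w) * q⁻¹ = (q * z * q⁻¹) * (q * w * q⁻¹) by group, hqz, hqw, hzzw])))) d hd)]
        _ = d * q * (v * (q⁻¹ * d) * v) := by group
        _ = q * d * (v * (q * d) * v) := by rw [← hqd, hqi]
        _ = q * (d * v) * (q * (d * v)) := by
          simp only [mul_assoc]
    have hddfix : x * (d * d) * x⁻¹ = d * d := by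
      rw [show x * (d * d) * x⁻¹ = (x * d * x⁻¹) * (x * d * x⁻¹) by group, hdx]
    have hv' : v = 1 ∨ v = z := by
      rcases hv with e | e | e | e
      · exact Or.inl e
      · exact Or.inr e
      · exfalso
        rw [e, hqw, hzww] at hd2
        have h1 := hdV _ hddfix (Or.inr (Or.inl (by rw [eq_inv_of_mul_eq_one_left hd2, hzi])))
        rw [h1, one_mul] at hd2
        exact hz1 hd2
      · exfalso
        rw [e, show q * (z * w) * q⁻¹ = (q * z * q⁻¹) * (q * w * q⁻¹) by group, hqz, hqw, hzzw, hwzw] at hd2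
        have h1 := hdV _ hddfix (Or.inr (Or.inl (by rw [eq_inv_of_mul_eq_one_left hd2, hzi])))
        rw [h1, one_mul] at hd2
        exact hz1 hd2
    have hqv : q * v = v * q := by
      rcases hv' with e | e <;> rw [e]
      · simp
      · exact hz q hqS
    have hcd : ∀ t ∈ T, t * d = d * t := hconjT d hdx hd v hv fun t ht hxt => by
      have hc : Commute q t := mul_inv_eq_iff_eq_mul.1 (hdq t ht hxt)
      have e : ∀ u : G, t * (q * u) * t⁻¹ = q * (t * u * t⁻¹) := fun u => by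
        rw [← mul_assoc t q, ← hc.eq]; group
      rcases hsw' t (hTP ht) with h | h <;> rw [hw'eq, e] at h
      · exact Or.inl (mul_left_cancel h)
      · right
        refine mul_left_cancel (a := q) ?_
        rw [h, mul_assoc]
    set R := (S : Subgroup G) ⊓ centralizer ({q} : Set G) with hRd
    set T' := P₁ ⊓ centralizer ({w'} : Set G) with hT'd
    have hcw : ∀ s ∈ P₁, s * q = q * s → s * w' = w' * s := by
      intro s hs hsq
      have hsd : Commute s d ∧ Commute s v := by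
        rcases (hmemP s).1 hs with h | h
        · exact ⟨hcd s h, hVc v hv s h⟩
        · have e : s = q * (q * s) := by rw [← mul_assoc, hq2, one_mul]
          rw [e]
          exact ⟨(show Commute q d from hqd).mul_left (hcd _ h),
            (show Commute q v from hqv).mul_left (hVc v hv _ h)⟩
      rw [hw'eq]
      exact ((show Commute s q from hsq).mul_right (hsd.1.mul_right hsd.2)).eq
    have hT'R : T' ≤ R := by
      rintro s ⟨hs, hsw⟩
      refine ⟨hPS hs, mem_centralizer_singleton_iff.2 ?_⟩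
      have hsw' : Commute s w' := mem_centralizer_singleton_iff.1 hsw
      have hsd : Commute s d ∧ Commute s v := by
        rcases (hmemP s).1 hs with h | h
        · exact ⟨hcd s h, hVc v hv s h⟩
        · have e : s = q * (q * s) := by rw [← mul_assoc, hq2, one_mul]
          rw [e]
          exact ⟨(show Commute q d from hqd).mul_left (hcd _ h),
            (show Commute q v from hqv).mul_left (hVc v hv _ h)⟩
      have hqq : q = w' * (d * v)⁻¹ := by rw [hw'eq, mul_inv_cancel_right]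
      rw [hqq]
      exact (hsw'.mul_right (hsd.1.mul_right hsd.2).inv_right).eq
    have hmemT' : ∀ a, a ∈ T' ↔ y⁻¹ * a * y ∈ T := by
      intro a
      constructor
      · rintro ⟨ha, haw⟩
        refine (hmemT _).2 ⟨hz _ (mul_mem (mul_mem (inv_mem hyS) (hPS ha)) hyS), ?_⟩
        calc y⁻¹ * a * y * w = y⁻¹ * (a * w') * y := by rw [hw'd]; group
          _ = y⁻¹ * (w' * a) * y := by rw [mem_centralizer_singleton_iff.1 haw]
          _ = w * (y⁻¹ * a * y) := by rw [hw'd]; group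
      · intro ha
        refine ⟨(mem_normalizer_iff''.1 hyn a).2 (hTP ha), mem_centralizer_singleton_iff.2 ?_⟩
        calc a * w' = y * (y⁻¹ * a * y * w) * y⁻¹ := by rw [hw'd]; group
          _ = y * (w * (y⁻¹ * a * y)) * y⁻¹ := by rw [((hmemT _).1 ha).2]
          _ = w' * a := by rw [hw'd]; group
    have hT'c : Nat.card T' = Nat.card T :=
      Nat.card_congr ((MulAut.conj y⁻¹).toEquiv.subtypeEquiv fun a => by
        show a ∈ T' ↔ y⁻¹ * a * (y⁻¹)⁻¹ ∈ T
        rw [inv_inv]; exact hmemT' a)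
    have hTlt : T < P₁ := lt_of_le_of_ne hTP fun e => hqT (e ▸ hqP)
    have hT32 : Nat.card T ≤ 32 := C.two_le₂ hT2 hTlt (hPeq ▸ hPltN) hN
    have hR : Nat.card R = 64 := by
      obtain ⟨s₀, hs₀, hs₀q⟩ : ∃ s₀ ∈ (S : Subgroup G), s₀ * q ≠ q * s₀ := by
        simpa using hnc
      have h₀ : s₀ ∉ R := fun h => hs₀q (mem_centralizer_singleton_iff.1 h.2)
      have h2 := index_two_of (inf_le_left : R ≤ (S : Subgroup G)) hs₀ h₀ fun a ha haR => by
        refine ⟨mul_mem ha hs₀, mem_centralizer_singleton_iff.2 (mul_inv_eq_iff_eq_mul.1 ?_)⟩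
        have e0 : s₀ * q * s₀⁻¹ = q * z :=
          (hq s₀ hs₀).resolve_left fun e => hs₀q (mul_inv_eq_iff_eq_mul.1 e)
        have ea : a * q * a⁻¹ = q * z :=
          (hq a ha).resolve_left fun e => haR ⟨ha, mem_centralizer_singleton_iff.2 (mul_inv_eq_iff_eq_mul.1 e)⟩
        calc a * s₀ * q * (a * s₀)⁻¹ = a * (s₀ * q * s₀⁻¹) * a⁻¹ := by group
          _ = (a * q * a⁻¹) * (a * z * a⁻¹) := by rw [e0]; group
          _ = q := by rw [ea, mul_inv_eq_iff_eq_mul.2 (hz a ha), mul_assoc, hz2, mul_one]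
      rw [C.card, show (2 : ℕ) ^ 7 = 128 by norm_num] at h2
      rw [hRd]; omega
    have hne : T' ≠ R := fun e => by rw [e, hR] at hT'c; omega
    obtain ⟨u, huR, huT, hun⟩ := exists_growth (sylow_two.to_le inf_le_left) hT'R hne
    have hu' : y⁻¹ * u * y ∈ P₁ := hPeq.le (mem_inf.2 ⟨mul_mem (mul_mem (inv_mem hyS) huR.1) hyS,
      mem_normalizer_of_conj_mem fun a ha => by
        have h1 : y * a * y⁻¹ ∈ T' := (hmemT' _).2 (by
          rwa [show y⁻¹ * (y * a * y⁻¹) * y = a by group])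
        have h2 := (hmemT' _).1 ((mem_normalizer_iff.1 hun _).1 h1)
        rwa [show y⁻¹ * (u * (y * a * y⁻¹) * u⁻¹) * y = y⁻¹ * u * y * a * (y⁻¹ * u * y)⁻¹ by group] at h2⟩)
    have huP : u ∈ P₁ := (mem_normalizer_iff''.1 hyn u).2 hu'
    exact huT ⟨huP, mem_centralizer_singleton_iff.2 (hcw u huP (mem_centralizer_singleton_iff.1 huR.2))⟩

/-- A normal four subgroup of the Sylow subgroup is central. -/
theorem noncentral_false {z q : G} (hz1 : z ≠ 1) (hz2 : z * z = 1) (hzS : z ∈ (S : Subgroup G))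
    (hz : ∀ s ∈ (S : Subgroup G), s * z = z * s) (hqS : q ∈ (S : Subgroup G)) (hq2 : q * q = 1)
    (hq : ∀ s ∈ (S : Subgroup G), s * q * s⁻¹ = q ∨ s * q * s⁻¹ = q * z)
    (hnc : ¬ ∀ s ∈ (S : Subgroup G), s * q = q * s) : False := by
  haveI : Fact (Nat.Prime 2) := ⟨Nat.prime_two⟩
  set R := (S : Subgroup G) ⊓ centralizer ({q} : Set G) with hRd
  have hR : ¬ (S : Subgroup G) ≤ R := fun h => hnc fun s hs => mem_centralizer_singleton_iff.1 (h hs).2
  have hmemR : ∀ s ∈ (S : Subgroup G), s ∈ R ↔ s * q = q * s := fun s hs =>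
    ⟨fun h => mem_centralizer_singleton_iff.1 h.2, fun h => ⟨hs, mem_centralizer_singleton_iff.2 h⟩⟩
  have hmove : ∀ s ∈ (S : Subgroup G), s ∉ R → s * q * s⁻¹ = q * z := fun s hs h =>
    (hq s hs).resolve_left fun e => h ((hmemR s hs).2 (mul_inv_eq_iff_eq_mul.1 e))
  obtain ⟨E, hE, n, hn, e, he, hne⟩ := C.exists_moving hR
  have hES : E ≤ (S : Subgroup G) := hE.1
  have hcS := C.cent_eq hz1 hz
  obtain ⟨hzE, hO⟩ := good_facts hE hzS hcS
  set N := normalizer (E : Set G) with hNd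
  have hqN : q ∈ N := mem_normalizer_of_conj_mem fun a ha => by
    have e : q * a * q⁻¹ = a * (a⁻¹ * q * (a⁻¹)⁻¹ * q⁻¹) := by group
    rw [e]
    rcases hq a⁻¹ (inv_mem (hES ha)) with h | h <;> rw [h]
    · simpa using ha
    · rw [hz q hqS, mul_inv_cancel_right]
      exact mul_mem ha hzE
  have hconj : ∀ m ∈ N, ∀ a ∈ E, m * a * m⁻¹ ∈ E := fun m hm a ha => (mem_normalizer_iff.1 hm a).1 ha
  have hEm : ∀ a ∈ E, n⁻¹ * a * n ∈ E := fun a ha => (mem_normalizer_iff''.1 hn a).1 ha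
  have he0 : e⁻¹ * (n⁻¹ * e * n) ∈ E := mul_mem (inv_mem he) (hEm e he)
  have hqz : q * z * q⁻¹ = z := by rw [hz q hqS, mul_inv_cancel_right]
  by_cases hqE : q ∈ E
  · -- `q ∈ E`
    obtain ⟨a', ha', ha'R⟩ : ∃ a' ∈ E, a' ∉ R := ⟨_, he0, hne⟩
    obtain ⟨m, hm, a, haE, haR, hma⟩ : ∃ m ∈ N, ∃ a ∈ E, a ∈ R ∧ m⁻¹ * a * m ∉ R := by
      by_cases h : e ∈ R
      · exact ⟨n, hn, e, he, h, fun h' => hne (mul_mem (inv_mem h) h')⟩
      · refine ⟨n⁻¹, inv_mem hn, n⁻¹ * e * n, hEm e he, ?_, ?_⟩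
        · by_contra h'
          refine hne ((hmemR _ (hES he0)).2 (mul_inv_eq_iff_eq_mul.1 ?_))
          have e1 := hmove _ (hES he) h
          have e2 := hmove _ (hES (hEm e he)) h'
          have e3 : e⁻¹ * (q * z) * e = q := by rw [← e1]; group
          calc e⁻¹ * (n⁻¹ * e * n) * q * (e⁻¹ * (n⁻¹ * e * n))⁻¹
              = e⁻¹ * ((n⁻¹ * e * n) * q * (n⁻¹ * e * n)⁻¹) * e := by group
            _ = q := by rw [e2, e3]
        · rwa [inv_inv, show n * (n⁻¹ * e * n) * n⁻¹ = e by group]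
    set q₁ := m * q * m⁻¹ with hq₁
    set z₁ := m * z * m⁻¹ with hz₁
    have hq₁E : q₁ ∈ E := hconj m hm q hqE
    have hz₁E : z₁ ∈ E := hconj m hm z hzE
    have hz₁c : ∀ b ∈ E, b * z₁ = z₁ * b := fun b hb => by
      have h1 := hz _ (hES ((mem_normalizer_iff''.1 hm b).1 hb))
      calc b * z₁ = m * (m⁻¹ * b * m * z) * m⁻¹ := by rw [hz₁]; group
        _ = m * (z * (m⁻¹ * b * m)) * m⁻¹ := by rw [h1]
        _ = z₁ * b := by rw [hz₁]; group
    have hnot : m⁻¹ * a * m * q * (m⁻¹ * a * m)⁻¹ = q * z :=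
      hmove _ (hES ((mem_normalizer_iff''.1 hm a).1 haE)) hma
    have haq₁ : a * q₁ * a⁻¹ = q₁ * z₁ := by
      calc a * q₁ * a⁻¹ = m * (m⁻¹ * a * m * q * (m⁻¹ * a * m)⁻¹) * m⁻¹ := by rw [hq₁]; group
        _ = _ := by rw [hnot, hq₁, hz₁]; group
    have hz₁1 : z₁ ≠ 1 := fun h => hz1 (conj_eq_one_iff.1 h)
    have haq : a * q = q * a := (hmemR a (hES haE)).1 haR
    have hzz₁ : z₁ ≠ z := fun h => by
      have hmS : m ∈ (S : Subgroup G) := (C.comm_iff hz1 hz).1 (mul_inv_eq_iff_eq_mul.1 h)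
      refine hz₁1 (mul_left_cancel (a := q₁) ?_)
      rw [mul_one, ← haq₁, mul_inv_eq_iff_eq_mul]
      rcases hq m hmS with h' | h' <;> rw [hq₁, h']
      · exact haq
      · exact ((show Commute a q from haq).mul_right (hz a (hES haE))).eq
    have hqq₁ : q₁ * q = q * q₁ := by
      rcases hq q₁ (hES hq₁E) with h | h
      · exact mul_inv_eq_iff_eq_mul.1 h
      exfalso
      have h2 : q * q₁ * q⁻¹ = q₁ * z₁ ∨ q * q₁ * q⁻¹ = q₁ := by
        have e : q * q₁ * q⁻¹ = m * ((m⁻¹ * q * m) * q * (m⁻¹ * q * m)⁻¹) * m⁻¹ := by rw [hq₁]; group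
        rw [e]
        rcases hq _ (hES ((mem_normalizer_iff''.1 hm q).1 hqE)) with h' | h' <;> rw [h']
        · exact Or.inr (by rw [hq₁])
        · exact Or.inl (by rw [hq₁, hz₁]; group)
      have h3 : q * q₁ * q⁻¹ = q₁ * z := by
        have h4 : q₁ * q = q * z * q₁ := mul_inv_eq_iff_eq_mul.1 h
        calc q * q₁ * q⁻¹ = q * q₁ * (z * z) * q⁻¹ := by rw [hz2, mul_one]
          _ = q * (q₁ * z) * z * q⁻¹ := by group
          _ = q * z * q₁ * z * q⁻¹ := by rw [hz q₁ (hES hq₁E)]; group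
          _ = q₁ * (q * z * q⁻¹) := by rw [← h4]; group
          _ = q₁ * z := by rw [hqz]
      rcases h2 with h' | h' <;> rw [h'] at h3
      · exact hzz₁ (mul_left_cancel h3)
      · exact hz1 (mul_left_cancel (a := q₁) (by rw [mul_one, ← h3]))
    have hle64 : 64 ≤ Nat.card E := by
      set X₁ := zpowers z with hX₁
      set X₂ := X₁ ⊔ zpowers z₁ with hX₂
      set X₃ := X₂ ⊔ zpowers q with hX₃
      set X₄ := X₃ ⊔ zpowers q₁ with hX₄
      set X₅ := E ⊓ centralizer ({q} : Set G) ⊓ centralizer ({q₁} : Set G) with hX₅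
      set X₆ := E ⊓ centralizer ({q} : Set G) with hX₆
      have hin : ∀ b, b ∈ E → b * q = q * b → b * q₁ = q₁ * b → zpowers b ≤ X₅ := fun b hb h1 h2 =>
        zpowers_le.2 ⟨⟨hb, mem_centralizer_singleton_iff.2 h1⟩, mem_centralizer_singleton_iff.2 h2⟩
      have h45 : X₄ ≤ X₅ := sup_le (sup_le (sup_le (hin z hzE (hz q hqS).symm (hz q₁ (hES hq₁E)).symm)
        (hin z₁ hz₁E (hz₁c q hqE).symm (hz₁c q₁ hq₁E).symm)) (hin q hqE rfl hqq₁.symm)) (hin q₁ hq₁E hqq₁ rfl)
      have h2a : X₂ ≤ centralizer ({a'} : Set G) := sup_le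
        (zpowers_le.2 (mem_centralizer_singleton_iff.2 (hz a' (hES ha')).symm))
        (zpowers_le.2 (mem_centralizer_singleton_iff.2 (hz₁c a' ha').symm))
      have h3a : X₃ ≤ centralizer ({a} : Set G) := sup_le (sup_le
        (zpowers_le.2 (mem_centralizer_singleton_iff.2 (hz a (hES haE)).symm))
        (zpowers_le.2 (mem_centralizer_singleton_iff.2 (hz₁c a haE).symm)))
        (zpowers_le.2 (mem_centralizer_singleton_iff.2 haq.symm))
      have hz₁X : z₁ ∉ X₁ := fun h => by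
        obtain ⟨i, hi⟩ := mem_zpowers_iff.1 h
        obtain ⟨j, hj | hj⟩ := Int.even_or_odd' i <;> rw [hj] at hi
        · rw [zpow_mul, zpow_two, hz2, one_zpow] at hi
          exact hz₁1 hi.symm
        · rw [zpow_add_one, zpow_mul, zpow_two, hz2, one_zpow, one_mul] at hi
          exact hzz₁ hi.symm
      have hqX : q ∉ X₂ := fun h => by
        have h1 := mem_centralizer_singleton_iff.1 (h2a h)
        exact hz1 (mul_left_cancel (a := q) (by
          rw [mul_one, ← hmove a' (hES ha') ha'R, mul_inv_eq_iff_eq_mul, h1]))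
      have hq₁X : q₁ ∉ X₃ := fun h => by
        have h1 := mem_centralizer_singleton_iff.1 (h3a h)
        exact hz₁1 (mul_left_cancel (a := q₁) (by rw [mul_one, ← haq₁, mul_inv_eq_iff_eq_mul, h1]))
      have d1 := double (X := (⊥ : Subgroup G)) (Y := X₁) bot_le (mem_zpowers z) (fun h => hz1 (mem_bot.1 h))
      have d2 := double (X := X₁) (Y := X₂) le_sup_left (mem_sup_right (mem_zpowers z₁)) hz₁X
      have d3 := double (X := X₂) (Y := X₃) le_sup_left (mem_sup_right (mem_zpowers q)) hqX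
      have d4 := double (X := X₃) (Y := X₄) le_sup_left (mem_sup_right (mem_zpowers q₁)) hq₁X
      have d45 := card_le_of_le h45
      have d5 := double (X := X₅) (Y := X₆) inf_le_left ⟨haE, mem_centralizer_singleton_iff.2 haq⟩
        (fun h => hz₁1 (mul_left_cancel (a := q₁) (by
          rw [mul_one, ← haq₁, mul_inv_eq_iff_eq_mul, mem_centralizer_singleton_iff.1 h.2])))
      have d6 := double (X := X₆) (Y := E) inf_le_left ha'
        (fun h => ha'R ⟨hES ha', h.2⟩)
      rw [card_bot] at d1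
      omega
    have hmS : m ∉ (S : Subgroup G) := fun h => hzz₁ (by rw [hz₁, hz m h, mul_inv_cancel_right])
    have hNtop : N ≠ ⊤ := C.normalizer_ne_top (fun h => hz1 (mem_bot.1 (h ▸ hzE)))
      (fun h => hmS (hES (h ▸ mem_top m)))
    have hEne : E ≠ (S : Subgroup G) := fun h => hmS (by
      have h1 : (S : Subgroup G) ≤ N := h ▸ le_normalizer
      rcases eq_or_lt_of_le h1 with h2 | h2
      · exact h2.ge hm
      · exact absurd (C.maximal h2) hNtop)
    obtain ⟨u, huS, huE, hun⟩ := exists_growth sylow_two hES hEne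
    have h32 := C.two_le₂ (sylow_two.to_le hES)
      (lt_of_le_not_ge (le_inf hES le_normalizer) fun h => huE (h ⟨huS, hun⟩))
      (lt_of_le_not_ge (inf_le_right : (S : Subgroup G) ⊓ N ≤ N) fun h => hmS (h hm).1) hNtop
    omega
  · -- `q ∉ E`
    have hqo : orderOf q = 2 := orderOf_eq_prime (by rw [pow_two, hq2]) fun h => hqE (h ▸ one_mem _)
    obtain ⟨x, hx1, hxo, hqx⟩ := exists_odd_inverted_of_notMem_pCore (G := N) (a := ⟨q, hqN⟩)
      (by rw [← orderOf_injective N.subtype N.subtype_injective]; exact hqo)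
      (fun h => hqE (hO ⟨_, h, rfl⟩))
    refine C.inverted_false hz1 hz2 hzS hz hqS hq2 hq hnc (x := (x : G)) (fun h => hx1 (Subtype.ext h))
      (by rw [Subgroup.orderOf_coe]; exact hxo) (congrArg Subtype.val hqx) (hES (hconj _ x.2 z hzE))
      (hES ((mem_normalizer_iff''.1 x.2 z).1 hzE))

end Ctx

end CfsgLib.Invol.LengthEight
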